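import Groth.Agent.Lib.DefH13.Glue

/-!
# The class of a first-order deformation in the first cohomology of the tangent sheaf
-/

set_option autoImplicit false
set_option linter.style.haveILetI false
set_option backward.isDefEq.respectTransparency.types false

universe u

open CategoryTheory CategoryTheory.Limits AlgebraicGeometry TopologicalSpace IsLocalRing Opposite

namespace Groth.Agent.DefH13

open ArtFun DefGlue3

variable {k : Type u} [Field k] {X : Scheme.{u}} (x : X ⟶ Spec (CommRingCat.of k)) [QuasiSeparated x]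
  {n : ℕ} (V : Fin n → X.affineOpens)

/-- A cocycle of sections measuring the differences of retractions. -/
def IsCoc {ξ : DefSch X x (Art.dual k k)} (R : ∀ i, Ret ξ (V i).1)
    (s : ∀ i j, (FT x).obj.obj (op ((V i).1 ⊓ (V j).1))) : Prop :=
  ∀ (i j : Fin n) (W : X.affineOpens) (hW : W.1 ≤ (V i).1 ⊓ (V j).1) (b : Γ(X, W.1)),
    der (asT x (s i j)) W hW b =
      dif ((R i).res inf_le_left) ((R j).res (inf_le_right : (V i).1 ⊓ (V j).1 ≤ (V j).1)) W hW b

/-- The class of a deformation. -/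
def IsCls (ξ : DefSch X x (Art.dual k k)) (c : CohFound.Hc (FT x) 1 (⊤ : X.Opens)) : Prop :=
  ∃ (R : ∀ i, Ret ξ (V i).1) (s : ∀ i j, (FT x).obj.obj (op ((V i).1 ⊓ (V j).1))),
    IsCoc x V R s ∧ CubeField.IsClass (FT x) (fun i => (V i).1) s c

variable {x} {V}

omit [QuasiSeparated x] in
theorem dif_res2 {ξ : DefSch X x (Art.dual k k)} {V₁ V₂ U : X.Opens} (R : Ret ξ V₁) (R' : Ret ξ V₂) (h : U ≤ V₁)
    (h' : U ≤ V₂) (W : X.affineOpens) (hW : W.1 ≤ U) (r : Γ(X, W.1)) :
    dif (R.res h) (R'.res h') W hW r = dif (R.res (hW.trans h)) (R'.res (hW.trans h')) W le_rfl r :=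
  (dif_res_open (R.res h) (R'.res h') hW le_rfl r).symm

theorem exists_coc {ξ : DefSch X x (Art.dual k k)} (R : ∀ i, Ret ξ (V i).1) :
    ∃ s, IsCoc x V R s ∧ CubeField.IsCocycleAb (FT x) (fun i => (V i).1) s := by
  have h : ∀ i j, ∃ t : TSec x ((V i).1 ⊓ (V j).1), ∀ W hW b,
      der t W hW b = dif ((R i).res inf_le_left) ((R j).res inf_le_right) W hW b := fun i j =>
    exists_tsec _ (fun W hW => dif_add _ _ hW) (fun W hW => dif_mul _ _ hW) (fun W hW => dif_str _ _ hW)
      fun W hW W' hW' hle => dif_res _ _ hW hW' hle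
  choose t ht using h
  refine ⟨fun i j => ofT x (t i j), ht, fun i j l U hi hj hl => sec_ext fun W hW b => ?_⟩
  rw [asT_add, der_add, der_ab, der_ab, der_ab, asT_ofT, asT_ofT, asT_ofT, ht, ht, ht,
    dif_res2, dif_res2, dif_res2]
  exact (dif_trans ((R i).res (hW.trans hi)) ((R j).res (hW.trans hj)) ((R l).res (hW.trans hl)) le_rfl b).symm

theorem exists_isCls [Smooth x] (hm : maximalIdeal (Art.dual k k).carrier ^ 2 = ⊥) (hcov : ⨆ i, (V i).1 = ⊤)
    (ξ : DefSch X x (Art.dual k k)) : ∃ c, IsCls x V ξ c := by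
  have R := fun i => (exists_ret ξ hm (V i)).some
  obtain ⟨s, hs, hcoc⟩ := exists_coc R
  obtain ⟨c, hc⟩ := CubeField.exists_isClass (FT x) (fun i => (V i).1) hcov s hcoc
  exact ⟨c, R, s, hs, hc⟩

theorem dif_decomp {ξ : DefSch X x (Art.dual k k)} {U : X.Opens} (A A' B B' : Ret ξ U) (W : X.affineOpens)
    (hW : W.1 ≤ U) (b : Γ(X, W.1)) :
    dif A B W hW b = dif A' B' W hW b + (dif A A' W hW b - dif B B' W hW b) := by
  rw [add_sub, eq_sub_iff_add_eq, ← dif_trans A B B' hW b, add_comm, ← dif_trans A A' B' hW b]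

theorem isCls_unique (hcov : ⨆ i, (V i).1 = ⊤) {ξ : DefSch X x (Art.dual k k)}
    {c c' : CohFound.Hc (FT x) 1 (⊤ : X.Opens)} (h : IsCls x V ξ c) (h' : IsCls x V ξ c') : c = c' := by
  obtain ⟨R, s, hs, hc⟩ := h
  obtain ⟨R', s', hs', hc'⟩ := h'
  have ht : ∀ i, ∃ t : TSec x (V i).1, ∀ W hW b, der t W hW b = dif (R i) (R' i) W hW b := fun i =>
    exists_tsec _ (fun W hW => dif_add _ _ hW) (fun W hW => dif_mul _ _ hW) (fun W hW => dif_str _ _ hW)
      fun W hW W' hW' hle => dif_res _ _ hW hW' hle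
  choose t ht using ht
  have e := hc.eq_mp (FT x) (fun i => (V i).1) hcov hc' (𝟙 _) (fun i => ofT x (t i)) fun i j =>
    sec_ext fun W hW b => by
    show _ = der (asT x (s' i j)) W hW b + (der (asT x (CubeField.ab (FT x) inf_le_left (ofT x (t i)))) W hW b -
      der (asT x (CubeField.ab (FT x) inf_le_right (ofT x (t j)))) W hW b)
    rw [der_ab, der_ab, asT_ofT, asT_ofT, ht, ht, hs i j W hW b, hs' i j W hW b,
      ← dif_res_open (R i) (R' i) inf_le_left hW b, ← dif_res_open (R j) (R' j) inf_le_right hW b]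
    exact dif_decomp _ _ _ _ W hW b
  rwa [CohFound.mp_id] at e

theorem IsCls.pull {ξ η : DefSch X x (Art.dual k k)} {g : ξ.total ⟶ η.total} (h : Over' (𝟙 _) η ξ g)
    {c : CohFound.Hc (FT x) 1 (⊤ : X.Opens)} (hc : IsCls x V η c) : IsCls x V ξ c := by
  obtain ⟨R, s, hs, hc⟩ := hc
  refine ⟨fun i => (R i).pull h, s, fun i j W hW b => ?_, hc⟩
  rw [hs i j W hW b]
  exact (dif_pull h ((R i).res inf_le_left) ((R j).res inf_le_right) hW b).symm

theorem over_of_iso {ξ η : DefSch X x (Art.dual k k)} (e : ξ.Iso η) : Over' (𝟙 _) η ξ e.iso.hom :=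
  ⟨e.hom_f.trans (by rw [Art.specMap_id]; exact (Category.comp_id _).symm), e.i_hom⟩

theorem nonempty_iso_trivial_of_isCls_zero (hx : Flat x) (hcov : ⨆ i, (V i).1 = ⊤)
    {ξ : DefSch X x (Art.dual k k)} (h : IsCls x V ξ 0) :
    Nonempty (ξ.Iso (DefSch.trivial X x hx (Art.dual k k))) := by
  obtain ⟨R, s, hs, hc⟩ := h
  obtain ⟨t, ht⟩ := hc.eq_boundary (FT x) (fun i => (V i).1)
  refine nonempty_iso_trivial hx V hcov (fun i => (R i).vadd (asT x (t i))) fun i j W hi hj r => ?_
  have e : der (asT x (s i j)) W (le_inf hi hj) r =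
      der (asT x (t i)) W hi r - der (asT x (t j)) W hj r := by
    rw [← ht i j, asT_sub, der_sub, der_ab, der_ab]
  refine (app_eq_of_dif (R := ((R i).vadd (asT x (t i))).res hi) (R' := ((R j).vadd (asT x (t j))).res hj)
    W le_rfl r ?_).symm
  rw [dif_trans _ ((R i).res hi) _ le_rfl r, dif_trans ((R i).res hi) ((R j).res hj) _ le_rfl r]
  have e1 : ∀ (l : Fin n) (hl : W.1 ≤ (V l).1), dif ((R l).res hl) (((R l).vadd (asT x (t l))).res hl) W le_rfl r =
      der (asT x (t l)) W hl r := fun l hl =>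
    (dif_res_open (R l) ((R l).vadd (asT x (t l))) hl le_rfl r).trans (dif_vadd (R l) _ W hl r)
  have e2 : dif (((R i).vadd (asT x (t i))).res hi) ((R i).res hi) W le_rfl r = - der (asT x (t i)) W hi r := by
    have := dif_trans ((R i).res hi) (((R i).vadd (asT x (t i))).res hi) ((R i).res hi) le_rfl r
    rw [e1] at this
    have h0 : dif ((R i).res hi) ((R i).res hi) W le_rfl r = 0 :=
      dif_eq _ _ le_rfl (map_zero _) (by rw [mul_zero, add_zero])
    rw [h0] at this
    linear_combination -this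
  have e3 : dif ((R i).res hi) ((R j).res hj) W le_rfl r = der (asT x (s i j)) W (le_inf hi hj) r := by
    rw [hs i j W (le_inf hi hj) r]
    exact dif_res_open ((R i).res inf_le_left) ((R j).res inf_le_right) (le_inf hi hj) le_rfl r
  rw [e1, e2, e3, e]
  ring

end Groth.Agent.DefH13
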