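import Groth.Agent.Lib.DefH13.Lin
import Groth.Agent.Lib.CohFound.QcohAffine
import Groth.Agent.Lib.CohFound.ProjQuot
import Groth.Agent.Lib.HomShH7.Basic
import Groth.Agent.Lib.AlmostR6.Degrees

/-!
# Every class in first cohomology is the class of a cocycle on an affine cover
-/

set_option autoImplicit false
set_option linter.style.haveILetI false
set_option backward.isDefEq.respectTransparency.types false

universe u

open CategoryTheory CategoryTheory.Limits AlgebraicGeometry TopologicalSpace Opposite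

namespace Groth.Agent.DefH13

open CohFound CubeField

theorem exists_coc_isClass {X : Scheme.{u}} (M : X.Modules) (hM : Coh.IsQCoh M) {n : ℕ} (V : Fin n → X.affineOpens)
    (c : Hc ((abF X).obj M) 1 (⊤ : X.Opens)) :
    ∃ s : ∀ i j, ((abF X).obj M).obj.obj (op ((V i).1 ⊓ (V j).1)),
      IsCocycleAb ((abF X).obj M) (fun i => (V i).1) s ∧ IsClass ((abF X).obj M) (fun i => (V i).1) s c := by
  haveI : M.IsQuasicoherent := hM
  let F := (abF X).obj M
  have hS := injSC_shortExact F
  haveI : TopCat.Sheaf.IsFlasque (injSC F).X₂ := isFlasque_of_injective (Injective.under F)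
  obtain ⟨z, hz⟩ := exact₁ hS 0 ⊤ c
    (@Subsingleton.elim _ (subsingleton_hc_of_isFlasque (injSC F).X₂ 0 ⊤) _ _)
  let q := hc0 (injSC F).X₃ ⊤ z
  have hloc : ∀ i, ∃ h : (injSC F).X₂.obj.obj (op (V i).1),
      ab (injSC F).X₃ le_top q = (injSC F).g.hom.app (op (V i).1) h := fun i => by
    obtain ⟨r, hr⟩ := exact₃ hS 0 (V i).1 ((hc0 (injSC F).X₃ (V i).1).symm (ab (injSC F).X₃ le_top q))
      (@Subsingleton.elim _ (subsingleton_hc_isAffineOpen M (V i).2 0) _ _)
    exact ⟨hc0 (injSC F).X₂ (V i).1 r, by rw [← hc0_mp, hr, AddEquiv.apply_symm_apply]⟩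
  choose h hh using hloc
  have hk : ∀ i j, ∃ s, (injSC F).f.hom.app (op ((V i).1 ⊓ (V j).1)) s =
      ab _ inf_le_left (h i) - ab _ (inf_le_right : (V i).1 ⊓ (V j).1 ≤ (V j).1) (h j) := fun i j => by
    refine exists_app_f_eq hS _ _ ?_
    rw [map_sub, app_ab, app_ab, ← hh, ← hh, ab_ab, ab_ab, sub_self]
  choose s hs using hk
  refine ⟨s, fun i j l U hi hj hl => injective_app_f hS U ?_, h, q, fun i j => (hs i j).symm, hh, ?_⟩
  · rw [map_add, app_ab, app_ab, app_ab, hs, hs, hs, map_sub, map_sub, map_sub, ab_ab, ab_ab, ab_ab, ab_ab,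
      ab_ab, ab_ab]
    abel
  · rw [AddEquiv.symm_apply_apply]; exact hz.symm

variable {k : Type u} [Field k] {X : Scheme.{u}} (x : X ⟶ Spec (CommRingCat.of k)) [QuasiSeparated x] [Smooth x]

theorem isFP_omega : CohB1.IsFP (Omega.sheaf x) :=
  M1.isFP_of_isFinLocFree (Omega12.isFinLocFree_receptacle_of_smooth x (Omega12.isUniversal_dOmega x))

theorem isQCoh_NT : Coh.IsQCoh (NT x) :=
  HomShH7.isQCoh_homMod (isFP_omega x) (M1.isQCoh_structureModule _)

end Groth.Agent.DefH13
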