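import Groth.Agent.Lib.DefH13.Ret
import Mathlib.AlgebraicGeometry.Morphisms.Etale

/-!
# Existence of retractions over affine opens of a smooth scheme
-/

set_option autoImplicit false
set_option linter.style.haveILetI false
set_option backward.isDefEq.respectTransparency.types false

universe u

open CategoryTheory CategoryTheory.Limits AlgebraicGeometry TopologicalSpace IsLocalRing

namespace Groth.Agent.DefH13

open ArtFun DefGlue3

variable {k : Type u} [Field k] {X : Scheme.{u}} {x : X ⟶ Spec (CommRingCat.of k)} {A : Art k k}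

theorem etale_res {U V : X.Opens} (hU : IsAffineOpen U) (hV : IsAffineOpen V) (h : V ≤ U) :
    (X.presheaf.map (homOfLE h).op).hom.Etale := by
  have h1 := HasRingHomProperty.appLE @Etale (𝟙 X) inferInstance ⟨U, hU⟩ ⟨V, hV⟩ h
  have e : (𝟙 X : X ⟶ X).appLE U V h = X.presheaf.map (homOfLE h).op := by
    simp [Scheme.Hom.appLE]
    exact Category.id_comp _
  rwa [e] at h1

theorem smooth_str [Smooth x] {V : X.Opens} (hV : IsAffineOpen V) : (ThickAff3.str x V).Smooth := by
  have h1 : (x.appLE ⊤ V le_top).hom.Smooth :=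
    HasRingHomProperty.appLE @Smooth x inferInstance ⟨⊤, isAffineOpen_top _⟩ ⟨V, hV⟩ le_top
  exact RingHom.Smooth.respectsIso.2 _ (Scheme.ΓSpecIso (CommRingCat.of k)).symm.commRingCatIsoToRingEquiv h1

variable (ξ : DefSch X x A) (hm : maximalIdeal A.carrier ^ 2 = ⊥)

include hm in
theorem ker_iW_sq (W : X.affineOpens) : RingHom.ker (iW ξ W.1) ^ 2 = ⊥ := by
  rw [ker_iW, ← Ideal.map_pow, hm, Ideal.map_bot]

include hm in
theorem exists_ret [Smooth x] (V : X.affineOpens) : Nonempty (Ret ξ V.1) := by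
  -- a section over the whole open
  obtain ⟨R₀, hR₀, hR₀str⟩ : ∃ R₀ : Γ(X, V.1) →+* Γ(ξ.total, up ξ V.1), (∀ r, iW ξ V.1 (R₀ r) = r) ∧
      ∀ c, R₀ (ThickAff3.str x V.1 c) = ThickAff3.str ξ.f (up ξ V.1) (algebraMap k A c) := by
    letI : Algebra k Γ(X, V.1) := (ThickAff3.str x V.1).toAlgebra
    letI : Algebra k Γ(ξ.total, up ξ V.1) := ((ThickAff3.str ξ.f (up ξ V.1)).comp (algebraMap k A)).toAlgebra
    haveI : Algebra.Smooth k Γ(X, V.1) := smooth_str V.2
    let q : Γ(ξ.total, up ξ V.1) →ₐ[k] Γ(X, V.1) :=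
      { iW ξ V.1 with
        commutes' := fun c => by
          show iW ξ V.1 (ThickAff3.str ξ.f _ (algebraMap k A c)) = ThickAff3.str x V.1 c
          rw [iW_str, AlgHom.commutes]
          rfl }
    let l := Algebra.FormallySmooth.liftOfSurjective (AlgHom.id k Γ(X, V.1)) q (iW_surjective ξ V)
      ⟨2, ker_iW_sq ξ hm V⟩
    exact ⟨l.toRingHom, fun r => Algebra.FormallySmooth.liftOfSurjective_apply _ q _ _ r, l.commutes⟩
  -- extension to smaller affine opens
  have key : ∀ (W : X.affineOpens) (hW : W.1 ≤ V.1), ∃! R : Γ(X, W.1) →+* Γ(ξ.total, up ξ W.1),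
      (∀ r, iW ξ W.1 (R r) = r) ∧ ∀ r, R (X.presheaf.map (homOfLE hW).op r) =
        ξ.total.presheaf.map (homOfLE (up_mono ξ hW)).op (R₀ r) := by
    intro W hW
    letI : Algebra Γ(X, V.1) Γ(X, W.1) := (X.presheaf.map (homOfLE hW).op).hom.toAlgebra
    letI : Algebra Γ(X, V.1) Γ(ξ.total, up ξ W.1) :=
      ((ξ.total.presheaf.map (homOfLE (up_mono ξ hW)).op).hom.comp R₀).toAlgebra
    haveI : Algebra.Etale Γ(X, V.1) Γ(X, W.1) := etale_res V.2 W.2 hW
    let q : Γ(ξ.total, up ξ W.1) →ₐ[Γ(X, V.1)] Γ(X, W.1) :=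
      { iW ξ W.1 with
        commutes' := fun r => by
          show iW ξ W.1 (ξ.total.presheaf.map _ (R₀ r)) = X.presheaf.map (homOfLE hW).op r
          rw [iW_res ξ hW, hR₀] }
    have hq : Function.Surjective q := iW_surjective ξ W
    obtain ⟨l, hl⟩ : ∃ l : Γ(X, W.1) →ₐ[Γ(X, V.1)] Γ(ξ.total, up ξ W.1), q.comp l = AlgHom.id _ _ :=
      ⟨Algebra.FormallySmooth.liftOfSurjective (AlgHom.id _ _) q hq ⟨2, ker_iW_sq ξ hm W⟩,
        Algebra.FormallySmooth.comp_liftOfSurjective _ _ _ _⟩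
    refine ⟨l.toRingHom, ⟨fun r => DFunLike.congr_fun hl r, l.commutes⟩, fun R hR => ?_⟩
    let l' : Γ(X, W.1) →ₐ[Γ(X, V.1)] Γ(ξ.total, up ξ W.1) := { R with commutes' := hR.2 }
    have e : l' = l := Algebra.FormallyUnramified.lift_unique_of_ringHom (B := Γ(ξ.total, up ξ W.1))
      (iW ξ W.1) ⟨2, ker_iW_sq ξ hm W⟩ l' l (RingHom.ext fun r => (hR.1 r).trans (DFunLike.congr_fun hl r).symm)
    exact congrArg AlgHom.toRingHom e
  choose R hR huniq using key
  refine ⟨{ app := R, sect := fun W hW => (hR W hW).1, str := fun W hW c => ?_, nat := ?_ }⟩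
  · have e : ThickAff3.str x W.1 c = X.presheaf.map (homOfLE hW).op (ThickAff3.str x V.1 c) :=
      (ThickAff3.res_str x hW c).symm
    rw [e, (hR W hW).2, hR₀str]
    exact ThickAff3.res_str ξ.f (up_mono ξ hW) _
  · intro W hW W' hW' h r
    letI : Algebra Γ(X, V.1) Γ(X, W.1) := (X.presheaf.map (homOfLE hW).op).hom.toAlgebra
    letI : Algebra Γ(X, V.1) Γ(ξ.total, up ξ W'.1) :=
      ((ξ.total.presheaf.map (homOfLE (up_mono ξ hW')).op).hom.comp R₀).toAlgebra
    haveI : Algebra.Etale Γ(X, V.1) Γ(X, W.1) := etale_res V.2 W.2 hW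
    let l : Γ(X, W.1) →ₐ[Γ(X, V.1)] Γ(ξ.total, up ξ W'.1) :=
      { (ξ.total.presheaf.map (homOfLE (up_mono ξ h)).op).hom.comp (R W hW) with
        commutes' := fun a => by
          show ξ.total.presheaf.map _ (R W hW (X.presheaf.map (homOfLE hW).op a)) = _
          rw [(hR W hW).2, ← ConcreteCategory.comp_apply, ← ξ.total.presheaf.map_comp]
          rfl }
    let l' : Γ(X, W.1) →ₐ[Γ(X, V.1)] Γ(ξ.total, up ξ W'.1) :=
      { (R W' hW').comp (X.presheaf.map (homOfLE h).op).hom with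
        commutes' := fun a => by
          show R W' hW' (X.presheaf.map (homOfLE h).op (X.presheaf.map (homOfLE hW).op a)) = _
          rw [← ConcreteCategory.comp_apply, ← X.presheaf.map_comp]
          exact (hR W' hW').2 a }
    have e : l = l' := Algebra.FormallyUnramified.lift_unique_of_ringHom (B := Γ(ξ.total, up ξ W'.1))
      (iW ξ W'.1) ⟨2, ker_iW_sq ξ hm W'⟩ l l' (RingHom.ext fun a => by
        show iW ξ W'.1 (ξ.total.presheaf.map _ (R W hW a)) = iW ξ W'.1 (R W' hW' _)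
        rw [iW_res ξ h, (hR W hW).1, (hR W' hW').1])
    exact DFunLike.congr_fun e r

end Groth.Agent.DefH13
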