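import Groth.Agent.Lib.DefH13.Tsec

/-!
# Translating retractions and gluing compatible ones
-/

set_option autoImplicit false
set_option linter.style.haveILetI false
set_option backward.isDefEq.respectTransparency.types false

universe u

open CategoryTheory CategoryTheory.Limits AlgebraicGeometry TopologicalSpace IsLocalRing Opposite

namespace Groth.Agent.DefH13

open ArtFun DefGlue3

variable {k : Type u} [Field k] {X : Scheme.{u}} {x : X ⟶ Spec (CommRingCat.of k)} [QuasiSeparated x]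
  {ξ : DefSch X x (Art.dual k k)} {V : X.Opens}

theorem eps_res : (Art.dual k k).res (ee k) = 0 := TrivSqZeroExt.fst_inr k (1 : k)

/-- Translation of a retraction by a section of the tangent sheaf. -/
noncomputable def Ret.vadd (R : Ret ξ V) (t : TSec x V) : Ret ξ V where
  app W hW :=
    { toFun := fun r => R.app W hW r + ThickAff3.str ξ.f (up ξ W.1) (ee k) * R.app W hW (der t W hW r)
      map_one' := by
        have h : der t W hW 1 = 0 := by
          have := der_mul t W hW 1 1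
          rw [one_mul, one_mul] at this
          simpa using this
        rw [h, map_one, map_zero, mul_zero, add_zero]
      map_mul' := fun a b => by
        have h0 := str_eps_sq (ξ := ξ) W
        rw [der_mul, map_add, map_mul, map_mul, map_mul]
        linear_combination (-(R.app W hW (der t W hW a) * R.app W hW (der t W hW b))) * h0
      map_zero' := by
        have h : der t W hW 0 = 0 := by
          have := der_add_arg t W hW 0 0
          rw [add_zero] at this
          simpa using this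
        rw [h, map_zero, mul_zero, add_zero]
      map_add' := fun a b => by
        rw [der_add_arg, map_add, map_add, mul_add]
        ring }
  sect W hW r := by
    show iW ξ W.1 (R.app W hW r + ThickAff3.str ξ.f (up ξ W.1) (ee k) * R.app W hW (der t W hW r)) = r
    rw [map_add, map_mul, R.sect, iW_str, eps_res, map_zero, zero_mul, add_zero]
  str W hW c := by
    show R.app W hW (ThickAff3.str x W.1 c) + ThickAff3.str ξ.f (up ξ W.1) (ee k) *
      R.app W hW (der t W hW (ThickAff3.str x W.1 c)) = _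
    rw [der_str, map_zero, mul_zero, add_zero, R.str]
  nat W hW W' hW' h r := by
    show ξ.total.presheaf.map (homOfLE (up_mono ξ h)).op (R.app W hW r + ThickAff3.str ξ.f (up ξ W.1) (ee k) * R.app W hW (der t W hW r)) =
      R.app W' hW' (X.presheaf.map (homOfLE h).op r) + ThickAff3.str ξ.f (up ξ W'.1) (ee k) *
        R.app W' hW' (der t W' hW' (X.presheaf.map (homOfLE h).op r))
    rw [map_add, map_mul, R.nat W hW W' hW' h, R.nat W hW W' hW' h, der_res t W hW W' hW' h]
    congr 2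
    exact ThickAff3.res_str ξ.f (up_mono ξ h) _

theorem dif_vadd (R : Ret ξ V) (t : TSec x V) (W : X.affineOpens) (hW : W.1 ≤ V) (r : Γ(X, W.1)) :
    dif R (R.vadd t) W hW r = der t W hW r :=
  dif_eq R _ hW (R.sect W hW _) rfl

omit [QuasiSeparated x] in
theorem app_eq_of_dif {R R' : Ret ξ V} (W : X.affineOpens) (hW : W.1 ≤ V) (r : Γ(X, W.1))
    (h : dif R R' W hW r = 0) : R'.app W hW r = R.app W hW r := by
  rw [dif_spec R R' hW r, h, map_zero, mul_zero, add_zero]

omit [QuasiSeparated x] in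
/-- Morphisms out of an open are determined on a covering by smaller opens. -/
theorem hom_ext_le {Z T : Scheme.{u}} {ι : Type u} (V : ι → Z.Opens) {O : Z.Opens} (hle : ∀ i, V i ≤ O)
    (hcov : O ≤ ⨆ i, V i) (a b : (O : Scheme.{u}) ⟶ T) (h : ∀ i, Z.homOfLE (hle i) ≫ a = Z.homOfLE (hle i) ≫ b) :
    a = b := by
  obtain rfl : O = ⨆ i, V i := le_antisymm hcov (iSup_le hle)
  exact (Scheme.Opens.iSupOpenCover V).hom_ext _ _ fun i => h i

omit [QuasiSeparated x] in
/-- Compatible retractions glue. -/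
theorem exists_retraction {ι : Type} (V : ι → X.affineOpens) (hcov : ⨆ i, (V i).1 = ⊤)
    (R : ∀ i, Ret ξ (V i).1)
    (h : ∀ (i j : ι) (W : X.affineOpens) (hi : W.1 ≤ (V i).1) (hj : W.1 ≤ (V j).1) (r : Γ(X, W.1)),
      (R i).app W hi r = (R j).app W hj r) :
    ∃ ρ : ξ.total ⟶ X, ξ.i ≫ ρ = 𝟙 X ∧ ρ ≫ x = ξ.f ≫ Art.specMap (Art.ofBase (Art.dual k k)) := by
  have hcov' : ⨆ i, up ξ (V i).1 = ⊤ := top_le_iff.1 fun p _ => by
    obtain ⟨q, rfl⟩ := ξ.i.surjective p
    obtain ⟨i, hi⟩ := Opens.mem_iSup.1 (hcov.ge (Opens.mem_top q))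
    exact Opens.mem_iSup.2 ⟨i, q, hi, rfl⟩
  let m : ∀ i, (up ξ (V i).1 : Scheme.{u}) ⟶ X := fun i =>
    (isAffineOpen_up ξ (V i).2).isoSpec.hom ≫ Spec.map (CommRingCat.ofHom ((R i).app (V i) le_rfl)) ≫ (V i).2.fromSpec
  have hmono : ∀ (i : ι) (W : X.affineOpens) (hW : W.1 ≤ (V i).1), ξ.total.homOfLE (up_mono ξ hW) ≫ m i =
      (isAffineOpen_up ξ W.2).isoSpec.hom ≫ Spec.map (CommRingCat.ofHom ((R i).app W hW)) ≫ W.2.fromSpec := by
    intro i W hW
    have e1 : ξ.total.homOfLE (up_mono ξ hW) ≫ (isAffineOpen_up ξ (V i).2).isoSpec.hom =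
        (isAffineOpen_up ξ W.2).isoSpec.hom ≫ Spec.map (ξ.total.presheaf.map (homOfLE (up_mono ξ hW)).op) := by
      rw [← cancel_mono (isAffineOpen_up ξ (V i).2).fromSpec, Category.assoc, Category.assoc,
        IsAffineOpen.map_fromSpec _ (isAffineOpen_up ξ W.2), IsAffineOpen.isoSpec_hom_fromSpec,
        IsAffineOpen.isoSpec_hom_fromSpec, Scheme.homOfLE_ι]
    have e2 : CommRingCat.ofHom ((R i).app (V i) le_rfl) ≫ ξ.total.presheaf.map (homOfLE (up_mono ξ hW)).op =
        X.presheaf.map (homOfLE hW).op ≫ CommRingCat.ofHom ((R i).app W hW) :=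
      CommRingCat.hom_ext (RingHom.ext fun r => (R i).nat (V i) le_rfl W hW hW r)
    show _ ≫ (isAffineOpen_up ξ (V i).2).isoSpec.hom ≫ _ ≫ _ = _
    rw [reassoc_of% e1, ← Spec.map_comp_assoc, e2, Spec.map_comp_assoc, IsAffineOpen.map_fromSpec (V i).2 W.2]
  let 𝒰 := Scheme.openCoverOfIsOpenCover ξ.total (fun i : ULift.{u} ι => up ξ (V i.down).1) (top_le_iff.1 fun p hp => by
    obtain ⟨i, hi⟩ := Opens.mem_iSup.1 (hcov'.ge hp)
    exact Opens.mem_iSup.2 ⟨ULift.up i, hi⟩)
  have hcompat : ∀ (i j : 𝒰.I₀), pullback.fst (𝒰.f i) (𝒰.f j) ≫ m i.down = pullback.snd _ _ ≫ m j.down :=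
    fun (i j : ULift.{u} ι) => by
    have hp := isPullback_opens_inf (up ξ (V i.down).1) (up ξ (V j.down).1)
    change pullback.fst (up ξ (V i.down).1).ι (up ξ (V j.down).1).ι ≫ m i.down =
      pullback.snd (up ξ (V i.down).1).ι (up ξ (V j.down).1).ι ≫ m j.down
    rw [← cancel_epi hp.isoPullback.hom, IsPullback.isoPullback_hom_fst_assoc, IsPullback.isoPullback_hom_snd_assoc]
    have hc : ∀ p : ((V i.down).1 ⊓ (V j.down).1 : X.Opens), ∃ W : X.affineOpens, (p : X) ∈ W.1 ∧
        W.1 ≤ (V i.down).1 ⊓ (V j.down).1 := fun p => by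
      obtain ⟨W, hW, hp, hle⟩ := exists_isAffineOpen_mem_and_subset p.2
      exact ⟨⟨W, hW⟩, hp, hle⟩
    choose W hpW hWle using hc
    refine hom_ext_le (fun p => up ξ (W p).1)
      (fun p => le_inf (up_mono ξ ((hWle p).trans inf_le_left)) (up_mono ξ ((hWle p).trans inf_le_right)))
      (fun p hp => ?_) _ _ fun p => ?_
    · obtain ⟨⟨q, hq, rfl⟩, q', hq', e⟩ := hp
      obtain rfl := (i_homeo ξ).injective e
      exact Opens.mem_iSup.2 ⟨⟨q', hq, hq'⟩, q', hpW _, rfl⟩
    rw [Scheme.homOfLE_homOfLE_assoc, Scheme.homOfLE_homOfLE_assoc, hmono i.down (W p) ((hWle p).trans inf_le_left),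
      hmono j.down (W p) ((hWle p).trans inf_le_right)]
    exact congrArg (fun φ => _ ≫ Spec.map φ ≫ _) (CommRingCat.hom_ext (RingHom.ext fun r =>
      h i.down j.down (W p) _ _ r))
  let ρ := 𝒰.glueMorphisms (fun i => m i.down) hcompat
  have hρ : ∀ i : ULift.{u} ι, (isAffineOpen_up ξ (V i.down).2).fromSpec ≫ ρ =
      Spec.map (CommRingCat.ofHom ((R i.down).app (V i.down) le_rfl)) ≫ (V i.down).2.fromSpec := fun i => by
    rw [← IsAffineOpen.isoSpec_inv_ι, Category.assoc]
    change _ ≫ 𝒰.f i ≫ _ = _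
    rw [Scheme.Cover.ι_glueMorphisms]
    show _ ≫ (isAffineOpen_up ξ (V i.down).2).isoSpec.hom ≫ _ = _
    rw [Iso.inv_hom_id_assoc]
  refine ⟨ρ, ?_, ?_⟩
  · refine Scheme.Cover.hom_ext (Scheme.openCoverOfIsOpenCover X (fun i : ULift.{u} ι => (V i.down).1)
      (top_le_iff.1 fun p hp => ?_)) _ _ fun (i : ULift.{u} ι) => ?_
    · obtain ⟨i, hi⟩ := Opens.mem_iSup.1 (hcov.ge hp)
      exact Opens.mem_iSup.2 ⟨ULift.up i, hi⟩
    change (V i.down).1.ι ≫ _ = (V i.down).1.ι ≫ 𝟙 X
    rw [← cancel_epi (V i.down).2.isoSpec.inv, IsAffineOpen.isoSpec_inv_ι_assoc, IsAffineOpen.isoSpec_inv_ι_assoc,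
      ← IsAffineOpen.SpecMap_appLE_fromSpec_assoc ξ.i (isAffineOpen_up ξ (V i.down).2) (V i.down).2
        (pre_up ξ (V i.down).1).ge, hρ i, ← Spec.map_comp_assoc, Category.comp_id]
    have e : CommRingCat.ofHom ((R i.down).app (V i.down) le_rfl) ≫
        ξ.i.appLE (up ξ (V i.down).1) (V i.down).1 (pre_up ξ (V i.down).1).ge = 𝟙 _ :=
      CommRingCat.hom_ext (RingHom.ext fun r => (R i.down).sect (V i.down) le_rfl r)
    rw [e]
    exact (congrArg (· ≫ _) (Spec.map_id _)).trans (Category.id_comp _)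
  · refine Scheme.Cover.hom_ext 𝒰 _ _ fun (i : ULift.{u} ι) => ?_
    change (up ξ (V i.down).1).ι ≫ _ = (up ξ (V i.down).1).ι ≫ _
    rw [← cancel_epi (isAffineOpen_up ξ (V i.down).2).isoSpec.inv, IsAffineOpen.isoSpec_inv_ι_assoc,
      IsAffineOpen.isoSpec_inv_ι_assoc, reassoc_of% (hρ i),
      ← IsAffineOpen.SpecMap_appLE_fromSpec x (isAffineOpen_top _) (V i.down).2 le_top, ← Spec.map_comp_assoc]
    refine Eq.trans ?_ (IsAffineOpen.SpecMap_appLE_fromSpec (ξ.f ≫ Art.specMap (Art.ofBase (Art.dual k k)))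
      (U := (⊤ : (Spec (CommRingCat.of k)).Opens)) (isAffineOpen_top _) (isAffineOpen_up ξ (V i.down).2) le_top)
    refine congrArg (fun φ => Spec.map φ ≫ _) (CommRingCat.hom_ext (RingHom.ext fun c => ?_))
    obtain ⟨c, rfl⟩ : ∃ c₀ : k, (Scheme.ΓSpecIso (CommRingCat.of k)).inv c₀ = c :=
      (ConcreteCategory.bijective_of_isIso (Scheme.ΓSpecIso (CommRingCat.of k)).inv).2 c
    show (R i.down).app (V i.down) le_rfl (ThickAff3.str x (V i.down).1 c) = _
    rw [(R i.down).str]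
    have e2 := appLE_str (𝟙 (Spec (CommRingCat.of k))) ξ.f (algebraMap k (Art.dual k k).carrier)
      (ξ.f ≫ Art.specMap (Art.ofBase (Art.dual k k))) (Category.comp_id _) ⊤ (up ξ (V i.down).1) le_top c
    have e3 : ThickAff3.str (𝟙 (Spec (CommRingCat.of k))) ⊤ c = (Scheme.ΓSpecIso (CommRingCat.of k)).inv c := by
      show ((Scheme.ΓSpecIso (CommRingCat.of k)).inv ≫ Scheme.Hom.appLE (𝟙 (Spec (CommRingCat.of k))) ⊤ ⊤ le_top).hom c = _
      simp [Scheme.Hom.appLE]
    rw [e3] at e2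
    exact e2.symm

omit [QuasiSeparated x] in
theorem nonempty_iso_trivial (hx : Flat x) {ι : Type} (V : ι → X.affineOpens) (hcov : ⨆ i, (V i).1 = ⊤)
    (R : ∀ i, Ret ξ (V i).1)
    (h : ∀ (i j : ι) (W : X.affineOpens) (hi : W.1 ≤ (V i).1) (hj : W.1 ≤ (V j).1) (r : Γ(X, W.1)),
      (R i).app W hi r = (R j).app W hj r) :
    Nonempty (ξ.Iso (DefSch.trivial X x hx (Art.dual k k))) := by
  obtain ⟨ρ, hρ, hρx⟩ := exists_retraction V hcov R h
  exact (show Over' (Art.ofBase (Art.dual k k)) (DefSch.self X x hx) ξ ρ from ⟨hρx, hρ⟩).nonempty_iso_bc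

end Groth.Agent.DefH13
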