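import Groth.Agent.Lib.DefH13.Cls

/-!
# Linearity and injectivity of the class
-/

set_option autoImplicit false
set_option linter.style.haveILetI false
set_option backward.isDefEq.respectTransparency.types false

universe u

open CategoryTheory CategoryTheory.Limits AlgebraicGeometry TopologicalSpace IsLocalRing Opposite

namespace Groth.Agent.DefH13

open ArtFun DefGlue3

variable {k : Type u} [Field k] {X : Scheme.{u}} {x : X ⟶ Spec (CommRingCat.of k)} [QuasiSeparated x] [Smooth x]

theorem maximalIdeal_sq_dual : maximalIdeal (Art.dual k k).carrier ^ 2 = ⊥ := by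
  rw [pow_two, ← le_bot_iff, Ideal.mul_le]
  intro a ha b hb
  rw [Submodule.mem_bot, eq_mul_eps ha, eq_mul_eps hb, mul_mul_mul_comm, HilbRS3.eps_mul_eps, mul_zero]

theorem tsze_mul_eq_zero {n : ℕ} (a b : TrivSqZeroExt k (Fin n → k)) (h0 : TrivSqZeroExt.fst a = 0)
    (h1 : TrivSqZeroExt.fst b = 0) : a * b = 0 := by
  refine TrivSqZeroExt.ext ?_ ?_
  · simp [h0]
  · simp [TrivSqZeroExt.snd_mul, h0, h1]

theorem maximalIdeal_sq_tn (n : ℕ) : maximalIdeal (ArtFunLib.tn k k n).carrier ^ 2 = ⊥ := by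
  rw [pow_two, ← le_bot_iff, Ideal.mul_le]
  intro a ha b hb
  have h0 : TrivSqZeroExt.fst (a : TrivSqZeroExt k (Fin n → k)) = 0 := ((ArtFunLib.tn k k n).mem_maximalIdeal_iff a).1 ha
  have h1 : TrivSqZeroExt.fst (b : TrivSqZeroExt k (Fin n → k)) = 0 := ((ArtFunLib.tn k k n).mem_maximalIdeal_iff b).1 hb
  rw [Submodule.mem_bot]
  exact tsze_mul_eq_zero a b h0 h1

variable {N : ℕ} {V : Fin N → X.affineOpens} (hcov : ⨆ i, (V i).1 = ⊤)

/-- The class of a deformation. -/
noncomputable def clsN (ξ : DefSch X x (Art.dual k k)) : CohFound.Hc (FT x) 1 (⊤ : X.Opens) :=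
  (exists_isCls (V := V) maximalIdeal_sq_dual hcov ξ).choose

theorem isCls_clsN (ξ : DefSch X x (Art.dual k k)) : IsCls x V ξ (clsN hcov ξ) :=
  (exists_isCls (V := V) maximalIdeal_sq_dual hcov ξ).choose_spec

/-- The class on isomorphism classes. -/
noncomputable def clsC : (defFunctor (Λ := k) X x).obj (Art.dual k k) → CohFound.Hc (FT x) 1 (⊤ : X.Opens) :=
  Quotient.lift (clsN hcov) fun _ η ⟨e⟩ =>
    isCls_unique hcov (isCls_clsN hcov _) ((isCls_clsN hcov η).pull (over_of_iso e))

theorem clsC_cl (ξ : DefSch X x (Art.dual k k)) : clsC hcov ξ.cl = clsN hcov ξ := rfl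

variable [X.Over (Spec (CommRingCat.of k))] (hx : x = X ↘ Spec (CommRingCat.of k))

/-- The class in cohomology. -/
noncomputable def clsHH (a : (defFunctor (Λ := k) X x).obj (Art.dual k k)) : Coh.HH X (NT x) 1 :=
  (CohFound.hhExt (NT x) 1).symm (clsC hcov a)

include hx in
theorem exists_linearMap_tn {n : ℕ} (ξ : DefSch X x (ArtFunLib.tn k k n)) :
    ∃ C : ((Fin n → k) →ₗ[k] k) →ₗ[k] Coh.HH X (NT x) 1,
      ∀ L, clsHH hcov ((defFunctor X x).map (ArtFunLib.tnDual L) ξ.cl) = C L := by
  have R := fun i => (exists_ret ξ (maximalIdeal_sq_tn n) (V i)).some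
  let RL := fun (L : (Fin n → k) →ₗ[k] k) i => (R i).pull (Over'.bc ξ (ArtFunLib.tnDual L))
  choose s hs hcoc using fun L => exists_coc (RL L)
  choose c hc using fun L => CubeField.exists_isClass (FT x) (fun i => (V i).1) hcov (s L) (hcoc L)
  have hv : ∀ (i j : Fin N) (W : X.affineOpens) (hW : W.1 ≤ (V i).1 ⊓ (V j).1) (b : Γ(X, W.1)),
      ∃ v : Fin n → Γ(X, W.1), ∀ L, der (asT x (s L i j)) W hW b =
        ∑ l, ThickAff3.str x W.1 (L (Pi.single l 1)) * v l := fun i j W hW b => by
    obtain ⟨v, hv⟩ := exists_dif_tn ((R i).res inf_le_left) ((R j).res inf_le_right) W hW b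
    exact ⟨v, fun L => (hs L i j W hW b).trans (hv L _ _ (Over'.bc ξ (ArtFunLib.tnDual L)))⟩
  have hadd : ∀ L M, c (L + M) = c L + c M := fun L M => by
    refine HilbObs3.isClass_unique _ hcov (hc _) ?_
    have e : s (L + M) = fun i j => s L i j + s M i j := by
      funext i j
      refine sec_ext fun W hW b => ?_
      obtain ⟨v, hv⟩ := hv i j W hW b
      rw [asT_add, der_add, hv, hv, hv, ← Finset.sum_add_distrib]
      refine Finset.sum_congr rfl fun l _ => ?_
      rw [LinearMap.add_apply, map_add, add_mul]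
    exact e ▸ HilbObs3.isClass_add (hc L) (hc M)
  have hsmul : ∀ (r : k) L, c (r • L) = CohFound.hhExt (NT x) 1 (r • (CohFound.hhExt (NT x) 1).symm (c L)) := fun r L => by
    refine Eq.trans ?_ (HilbObs3.smul_hhExt (NT x) r (c L)).symm
    refine (hc (r • L)).eq_mp (FT x) (fun i => (V i).1) hcov (hc L) (Coh.smulAb (NT x) _) (fun i => 0) fun i j => ?_
    rw [map_zero, map_zero, sub_zero, add_zero]
    refine sec_ext fun W hW b => ?_
    obtain ⟨v, hv⟩ := hv i j W hW b
    refine Eq.trans ?_ (der_smulAb hx r (s L i j) W hW b).symm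
    rw [hv, hv, Finset.mul_sum]
    refine Finset.sum_congr rfl fun l _ => ?_
    rw [LinearMap.smul_apply, smul_eq_mul, map_mul, mul_assoc]
  refine ⟨HilbObs3.linOfAdd (CohFound.hhExt (NT x) 1) c hadd hsmul, fun L => ?_⟩
  rw [HilbObs3.linOfAdd_apply]
  refine congrArg (CohFound.hhExt (NT x) 1).symm ?_
  exact isCls_unique hcov (isCls_clsN hcov _) ⟨RL L, s L, hs L, hc L⟩

variable [TangentStr (defFunctor (Λ := k) X x)]

/-- The class, linearly. -/
noncomputable def clsLin : TangentSpace (defFunctor (Λ := k) X x) →ₗ[k] Coh.HH X (NT x) 1 where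
  toFun a := clsHH hcov a.val
  map_add' a b := by
    obtain ⟨z, hz⟩ := (ArtFunLib.tnProj_bijective (h0 (Λ := k) (X := X) (x := x)) heps 2).2 ![a.val, b.val]
    induction z using Quotient.inductionOn with
    | h ξ =>
    obtain ⟨C, hC⟩ := exists_linearMap_tn hcov hx ξ
    have hadd := (ArtFunLib.evT ξ.cl).map_add (LinearMap.proj (0 : Fin 2)) (LinearMap.proj 1)
    have ea : a = ArtFunLib.evT ξ.cl (LinearMap.proj (0 : Fin 2)) := (congrFun hz 0).symm
    have eb : b = ArtFunLib.evT ξ.cl (LinearMap.proj (1 : Fin 2)) := (congrFun hz 1).symm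
    rw [ea, eb, ← hadd]
    exact (hC _).trans ((C.map_add _ _).trans (congrArg₂ (· + ·) (hC _).symm (hC _).symm))
  map_smul' c a := by
    obtain ⟨z, hz⟩ := (ArtFunLib.tnProj_bijective (h0 (Λ := k) (X := X) (x := x)) heps 1).2 ![a.val]
    induction z using Quotient.inductionOn with
    | h ξ =>
    obtain ⟨C, hC⟩ := exists_linearMap_tn hcov hx ξ
    have hs := (ArtFunLib.evT ξ.cl).map_smul c (LinearMap.proj (0 : Fin 1))
    have ea : a = ArtFunLib.evT ξ.cl (LinearMap.proj (0 : Fin 1)) := (congrFun hz 0).symm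
    rw [ea, ← hs, RingHom.id_apply]
    exact (hC _).trans ((C.map_smul _ _).trans (congrArg (c • ·) (hC _).symm))

theorem clsLin_injective : Function.Injective (clsLin hcov hx) := by
  haveI hfl : Flat x := inferInstance
  have key : ∀ a : (defFunctor (Λ := k) X x).obj (Art.dual k k), clsHH hcov a = 0 →
      a = (DefSch.trivial X x hfl (Art.dual k k)).cl := by
    intro a ha
    induction a using Quotient.inductionOn with
    | h ξ =>
    have h0 : clsN hcov ξ = 0 := by
      have := congrArg (CohFound.hhExt (NT x) 1) ha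
      rwa [clsHH, AddEquiv.apply_symm_apply, map_zero] at this
    exact Quotient.sound (nonempty_iso_trivial_of_isCls_zero hfl hcov (h0 ▸ isCls_clsN hcov ξ))
  refine (injective_iff_map_eq_zero _).2 fun a ha => ?_
  exact (key a.val ha).trans (key _ (map_zero (clsLin hcov hx))).symm

end Groth.Agent.DefH13
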