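import Groth.Agent.Lib.DefH13.Twist
import Mathlib.AlgebraicGeometry.Cover.Directed

/-!
# The first-order deformation of a cocycle of derivations
-/

set_option autoImplicit false
set_option linter.style.haveILetI false
set_option backward.isDefEq.respectTransparency.types false

universe u

open CategoryTheory CategoryTheory.Limits AlgebraicGeometry TopologicalSpace IsLocalRing Opposite

namespace Groth.Agent.DefH13

open ArtFun ArtFun.Art HilbRS3 HilbObs3 HomTan3 CubeField

variable {k : Type u} [Field k] {X : Scheme.{u}} (x : X ⟶ Art.specPt k) [QuasiSeparated x]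
  {n : ℕ} (V : Fin n → X.affineOpens)

/-- Affine opens of a member of the cover. -/
structure Pr : Type u where
  /-- the member of the cover -/
  i : Fin n
  /-- the affine open -/
  W : X.affineOpens
  le : W.1 ≤ (V i).1

instance : Preorder (Pr V) := Preorder.lift fun p : Pr V => (p.W.1 : X.Opens)

variable {x} {V} (s : ∀ i j, (FT x).obj.obj (op ((V i).1 ⊓ (V j).1)))

/-- The transition map. -/
noncomputable def phi {p q : Pr V} (h : p ≤ q) : BW x q.W →+* BW x p.W :=
  (θ (asT x (s p.i q.i)) (le_inf p.le (le_trans h q.le))).comp (cres x (dual k k) h)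

theorem phi_apply {p q : Pr V} (h : p ≤ q) (z : BW x q.W) :
    phi s h z = θ (asT x (s p.i q.i)) (le_inf p.le (le_trans h q.le)) (cres x (dual k k) h z) := rfl

theorem cι₀_phi {p q : Pr V} (h : p ≤ q) (z : BW x q.W) :
    cι₀ x (dual k k) p.W (phi s h z) = X.presheaf.map (homOfLE h).op (cι₀ x (dual k k) q.W z) := by
  rw [phi_apply, cι₀_θ, cι₀_cres]
  rfl

theorem phi_cσ {p q : Pr V} (h : p ≤ q) (a : (dual k k : Art k k).carrier) :
    phi s h (cσ x (dual k k) q.W a) = cσ x (dual k k) p.W a := by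
  rw [phi_apply, cres_cσ, θ_cσ]

theorem phi_cι {p q : Pr V} (h : p ≤ q) (r : Γ(X, q.W.1)) :
    phi s h (cι x (dual k k) q.W r) = cι x (dual k k) p.W (X.presheaf.map (homOfLE h).op r) +
      cσ x (dual k k) p.W (HomTan3.eps k) * cι x (dual k k) p.W
        (der (asT x (s p.i q.i)) p.W (le_inf p.le (le_trans h q.le)) (X.presheaf.map (homOfLE h).op r)) := by
  rw [phi_apply, cres_cι', θ_cι]
  rfl

variable {s} (hs : IsCocycleAb (FT x) (fun i => (V i).1) s)
include hs

theorem der_coc (i j l : Fin n) (W : X.affineOpens) (hi : W.1 ≤ (V i).1) (hj : W.1 ≤ (V j).1) (hl : W.1 ≤ (V l).1)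
    (r : Γ(X, W.1)) : der (asT x (s i l)) W (le_inf hi hl) r =
      der (asT x (s i j)) W (le_inf hi hj) r + der (asT x (s j l)) W (le_inf hj hl) r :=
  (congrArg (fun z : (FT x).obj.obj (op W.1) => der (asT x z) W le_rfl r) (hs i j l W.1 hi hj hl)).symm

theorem der_self (i : Fin n) (W : X.affineOpens) (hi : W.1 ≤ (V i).1) (r : Γ(X, W.1)) :
    der (asT x (s i i)) W (le_inf hi hi) r = 0 := by
  have h := der_coc hs i i i W hi hi hi r
  linear_combination -h

theorem phi_id (p : Pr V) (z : BW x p.W) : phi s (le_refl p) z = z := by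
  have e : cres x (dual k k) (le_refl p.W.1) z = z := by
    show (XA x (dual k k)).presheaf.map (homOfLE (HilbObs3.chart_mono x (dual k k) (le_refl p.W.1))).op z = z
    simp
  rw [phi_apply, e, θ_apply, der_self hs p.i p.W p.le, map_zero, mul_zero, add_zero]

theorem phi_comp {p q r : Pr V} (h : p ≤ q) (h' : q ≤ r) (z : BW x r.W) :
    phi s h (phi s h' z) = phi s (h.trans h') z := by
  rw [phi_apply, phi_apply, cres_θ _ _ (le_inf (le_trans h q.le) (le_trans (h.trans h') r.le)) h,
    show cres x (dual k k) h (cres x (dual k k) h' z) = cres x (dual k k) (h.trans h') z from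
      RingHom.congr_fun (HilbObs3.cres_cres x h' h) z,
    θ_θ _ _ (asT x (s p.i r.i)) _ _ (le_inf p.le (le_trans (h.trans h') r.le))
      (fun a => der_coc hs p.i q.i r.i p.W p.le (le_trans h q.le) (le_trans (h.trans h') r.le) a)]
  rfl

/-- The diagram of charts. -/
noncomputable def diag : Pr V ⥤ Scheme.{u} where
  obj p := Spec (BW x p.W)
  map {p q} h := Spec.map (CommRingCat.ofHom (phi s (leOfHom h)))
  map_id p := by
    rw [show CommRingCat.ofHom (phi s (leOfHom (𝟙 p))) = 𝟙 (BW x p.W) from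
      CommRingCat.hom_ext (RingHom.ext fun z => phi_id hs p z)]
    exact Spec.map_id _
  map_comp {p q r} h h' := by
    rw [← Spec.map_comp, ← CommRingCat.ofHom_comp]
    exact congrArg (fun φ => Spec.map (CommRingCat.ofHom φ)) (RingHom.ext fun z => (phi_comp hs (leOfHom h) (leOfHom h') z).symm)

instance isOpenImmersion_map {p q : Pr V} (h : p ⟶ q) : IsOpenImmersion ((diag hs).map h) := by
  show IsOpenImmersion (Spec.map (CommRingCat.ofHom (phi s (leOfHom h))))
  rw [show phi s (leOfHom h) = (θ (asT x (s p.i q.i)) (le_inf p.le (le_trans (leOfHom h) q.le))).comp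
    (cres x (dual k k) (leOfHom h)) from rfl, CommRingCat.ofHom_comp, Spec.map_comp]
  haveI := isOpenImmersion_cres (x := x) (W := q.W) (W' := p.W) (leOfHom h)
  haveI : IsIso (CommRingCat.ofHom (θ (asT x (s p.i q.i)) (le_inf p.le (le_trans (leOfHom h) q.le)))) :=
    (ConcreteCategory.isIso_iff_bijective _).2 (θ_bijective _ _)
  infer_instance

omit [QuasiSeparated x] in
omit hs in
theorem surjective_jW (W : X.affineOpens) : Surjective (jW x W) := by
  haveI := DefGlue3.surjective_specRes (dual k k : Art k k)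
  exact MorphismProperty.of_isPullback (isPullback_jW x W).flip (inferInstance : Surjective (Art.specRes (dual k k)))

omit [QuasiSeparated x] in
omit hs in
theorem isClosedImmersion_jW (W : X.affineOpens) : IsClosedImmersion (jW x W) :=
  MorphismProperty.of_isPullback (isPullback_jW x W).flip (inferInstance : IsClosedImmersion (Art.specRes (dual k k)))

theorem jW_map {p q : Pr V} (h : p ⟶ q) :
    jW x p.W ≫ (diag hs).map h = X.homOfLE (leOfHom h) ≫ jW x q.W := by
  show (p.W.2.isoSpec.hom ≫ _) ≫ Spec.map _ = X.homOfLE (leOfHom h) ≫ q.W.2.isoSpec.hom ≫ _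
  rw [Category.assoc, ← Spec.map_comp,
    show CommRingCat.ofHom (phi s (leOfHom h)) ≫ CommRingCat.ofHom (cι₀ x (dual k k) p.W) =
      CommRingCat.ofHom (cι₀ x (dual k k) q.W) ≫ X.presheaf.map (homOfLE (leOfHom h)).op from
      CommRingCat.hom_ext (RingHom.ext fun z => cι₀_phi s (leOfHom h) z), Spec.map_comp, ← Category.assoc,
    ← Category.assoc (X.homOfLE (leOfHom h))]
  refine congrArg (· ≫ Spec.map _) ?_
  rw [← cancel_mono q.W.2.fromSpec, Category.assoc, Category.assoc, IsAffineOpen.map_fromSpec _ p.W.2,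
    IsAffineOpen.isoSpec_hom_fromSpec, IsAffineOpen.isoSpec_hom_fromSpec, Scheme.homOfLE_ι]

instance isLocallyDirected_diag : ((diag hs) ⋙ Scheme.forget).IsLocallyDirected := ⟨fun {i j l} fi fj xi xj hx => by
  obtain ⟨zi, rfl⟩ := (surjective_jW (x := x) i.W).surj xi
  obtain ⟨zj, rfl⟩ := (surjective_jW (x := x) j.W).surj xj
  haveI := isClosedImmersion_jW (x := x) l.W
  have hx' : (jW x i.W ≫ (diag hs).map fi) zi = (jW x j.W ≫ (diag hs).map fj) zj := hx
  rw [jW_map hs fi, jW_map hs fj] at hx'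
  have hz : X.homOfLE (leOfHom fi) zi = X.homOfLE (leOfHom fj) zj := (jW x l.W).isClosedEmbedding.injective hx'
  have hz' : (zi.1 : X) = zj.1 :=
    (Scheme.homOfLE_apply _ zi).symm.trans ((congrArg Subtype.val hz).trans (Scheme.homOfLE_apply _ zj))
  obtain ⟨W, hW, hzW, hWle⟩ := exists_isAffineOpen_mem_and_subset (U := i.W.1 ⊓ j.W.1) (x := zi.1)
    ⟨zi.2, hz' ▸ zj.2⟩
  let r : Pr V := ⟨i.i, ⟨W, hW⟩, fun z hz => i.le (hWle hz).1⟩
  have li : r ≤ i := fun z hz => (hWle hz).1
  have lj : r ≤ j := fun z hz => (hWle hz).2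
  refine ⟨r, homOfLE li, homOfLE lj, jW x r.W ⟨zi.1, hzW⟩, ?_, ?_⟩
  · show (jW x r.W ≫ (diag hs).map (homOfLE li)) ⟨zi.1, hzW⟩ = jW x i.W zi
    rw [jW_map]
    exact congrArg (jW x i.W) (Subtype.ext (Scheme.homOfLE_apply _ _))
  · show (jW x r.W ≫ (diag hs).map (homOfLE lj)) ⟨zi.1, hzW⟩ = jW x j.W zj
    rw [jW_map]
    exact congrArg (jW x j.W) (Subtype.ext ((Scheme.homOfLE_apply _ _).trans hz'))⟩

variable (hcov : ⨆ i, (V i).1 = ⊤)
include hcov

omit hs in
omit [QuasiSeparated x] in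
theorem iSup_Pr : ⨆ p : Pr V, (p.W.1 : X.Opens) = ⊤ :=
  top_le_iff.1 fun q hq => by
    obtain ⟨i, hi⟩ := Opens.mem_iSup.1 (hcov.ge hq)
    exact Opens.mem_iSup.2 ⟨⟨i, V i, le_refl _⟩, hi⟩

/-- A glued deformation: total space with charts. -/
theorem exists_glued : ∃ (ξ : DefSch X x (dual k k)) (ι : ∀ p : Pr V, Spec (BW x p.W) ⟶ ξ.total),
    (∀ p, IsOpenImmersion (ι p)) ∧ (∀ p, p.W.1.ι ≫ ξ.i = jW x p.W ≫ ι p) ∧
    (∀ p, ι p ≫ ξ.f = Spec.map (CommRingCat.ofHom (cσ x (dual k k) p.W))) ∧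
    ∀ (p q : Pr V) (h : p ≤ q), Spec.map (CommRingCat.ofHom (phi s h)) ≫ ι q = ι p := by
  let F := diag hs
  haveI : ∀ {p q : Pr V} (h : p ⟶ q), IsOpenImmersion (F.map h) := fun h => isOpenImmersion_map hs h
  haveI : (F ⋙ Scheme.forget).IsLocallyDirected := isLocallyDirected_diag hs
  let Z := colimit F
  haveI hι : ∀ p : Pr V, IsOpenImmersion (colimit.ι F p) := fun p => (Scheme.IsLocallyDirected.openCover F).map_prop p
  let i : X ⟶ Z := (Scheme.openCoverOfIsOpenCover X (fun p : Pr V => p.W.1) (iSup_Pr hcov)).glueMorphisms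
    (fun p => jW x p.W ≫ colimit.ι F p) fun (p q : Pr V) => by
      have hp := isPullback_opens_inf p.W.1 q.W.1
      change pullback.fst p.W.1.ι q.W.1.ι ≫ _ = pullback.snd p.W.1.ι q.W.1.ι ≫ _
      rw [← cancel_epi hp.isoPullback.hom, IsPullback.isoPullback_hom_fst_assoc,
        IsPullback.isoPullback_hom_snd_assoc]
      have hc : ∀ z : (p.W.1 ⊓ q.W.1 : X.Opens), ∃ r : Pr V, (z : X) ∈ r.W.1 ∧ r ≤ p ∧ r ≤ q := fun z => by
        obtain ⟨W, hW, hz, hle⟩ := exists_isAffineOpen_mem_and_subset z.2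
        exact ⟨⟨p.i, ⟨W, hW⟩, fun a ha => p.le (hle ha).1⟩, hz, fun a ha => (hle ha).1, fun a ha => (hle ha).2⟩
      choose r hzr hrp hrq using hc
      refine hom_ext_le (fun z => (r z).W.1) (fun z => le_inf (hrp z) (hrq z))
        (fun z hz => Opens.mem_iSup.2 ⟨⟨z, hz⟩, hzr _⟩) _ _ fun z => ?_
      have e : ∀ (p : Pr V) (h : r z ≤ p), X.homOfLE h ≫ jW x p.W ≫ colimit.ι F p =
          jW x (r z).W ≫ colimit.ι F (r z) := fun p h =>
        (Category.assoc _ _ _).symm.trans ((congrArg (· ≫ colimit.ι F p) (jW_map hs (homOfLE h)).symm).trans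
          ((Category.assoc _ _ _).trans (congrArg _ (colimit.w F (homOfLE h)))))
      rw [Scheme.homOfLE_homOfLE_assoc, Scheme.homOfLE_homOfLE_assoc]
      exact (e p (hrp z)).trans (e q (hrq z)).symm
  have hi : ∀ p : Pr V, p.W.1.ι ≫ i = jW x p.W ≫ colimit.ι F p := fun p =>
    Scheme.Cover.ι_glueMorphisms (Scheme.openCoverOfIsOpenCover X (fun p : Pr V => p.W.1) (iSup_Pr hcov)) _ _ p
  let f : Z ⟶ Art.spec (dual k k) := colimit.desc F
    { pt := Art.spec (dual k k)
      ι := { app := fun p => Spec.map (CommRingCat.ofHom (cσ x (dual k k) p.W))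
             naturality := fun p q h => by
              show Spec.map _ ≫ Spec.map _ = Spec.map _ ≫ 𝟙 _
              rw [Category.comp_id, ← Spec.map_comp, ← CommRingCat.ofHom_comp]
              exact congrArg (fun φ => Spec.map (CommRingCat.ofHom φ)) (RingHom.ext fun a => phi_cσ s (leOfHom h) a) } }
  have hf : ∀ p : Pr V, colimit.ι F p ≫ f = Spec.map (CommRingCat.ofHom (cσ x (dual k k) p.W)) :=
    fun p => colimit.ι_desc _ p
  have hflat : Flat f := by
    refine IsZariskiLocalAtSource.of_openCover (P := @Flat) (Scheme.IsLocallyDirected.openCover F) fun p => ?_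
    change Flat (colimit.ι F p ≫ f)
    rw [hf]
    exact (HasRingHomProperty.Spec_iff (P := @Flat)).2 (flat_cσ x (dual k k) p.W)
  have hpb : ∀ p : Pr V, IsPullback p.W.1.ι (jW x p.W) i (colimit.ι F p) := fun p => by
    let c : Spec (BW x p.W) ⟶ Z := colimit.ι F p
    haveI : IsOpenImmersion c := hι p
    refine (IsOpenImmersion.isPullback (jW x p.W) p.W.1.ι c i (hi p) ?_).flip
    refine Opens.ext (Set.Subset.antisymm ?_ ?_)
    · rintro z ⟨w, hw⟩
      replace hw : colimit.ι F p w = i z := hw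
      rw [Scheme.Opens.opensRange_ι]
      obtain ⟨q, hq⟩ := Opens.mem_iSup.1 ((iSup_Pr hcov).ge (Opens.mem_top z))
      have hz : colimit.ι F q (jW x q.W ⟨z, hq⟩) = colimit.ι F p w := by
        exact ((congrArg (fun m : q.W.1.toScheme ⟶ Z => m ⟨z, hq⟩) (hi q)).symm.trans rfl).trans hw.symm
      obtain ⟨r, fq, fp, y, hy, -⟩ := (Scheme.IsLocallyDirected.ι_eq_ι_iff F).1 hz
      obtain ⟨a, rfl⟩ := (surjective_jW (x := x) r.W).surj y
      haveI := isClosedImmersion_jW (x := x) q.W
      have ha : (jW x r.W ≫ F.map fq) a = jW x q.W ⟨z, hq⟩ := hy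
      rw [jW_map hs fq] at ha
      have haz : (a.1 : X) = z := (Scheme.homOfLE_apply _ a).symm.trans
        (congrArg Subtype.val ((jW x q.W).isClosedEmbedding.injective ha))
      exact haz ▸ leOfHom fp a.2
    · rintro _ ⟨a, rfl⟩
      exact ⟨jW x p.W a, by rw [← Scheme.Hom.comp_apply, ← hi p]; rfl⟩
  refine ⟨{ total := Z, f := f, flat := hflat, i := i, isPullback := ?_ }, fun p => colimit.ι F p,
    hι, hi, hf, fun p q h => colimit.w F (homOfLE h)⟩
  refine Scheme.isPullback_of_openCover i x f (Art.specRes (dual k k)) (Scheme.IsLocallyDirected.openCover F) fun p => ?_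
  have hpb' := hpb p
  refine IsPullback.of_iso (isPullback_jW x p.W) hpb'.isoPullback (Iso.refl _) (Iso.refl _) (Iso.refl _) ?_ ?_ ?_ ?_
  · show jW x p.W ≫ 𝟙 _ = hpb'.isoPullback.hom ≫ pullback.snd _ _
    rw [Category.comp_id, IsPullback.isoPullback_hom_snd]
  · show (p.W.1.ι ≫ x) ≫ 𝟙 _ = hpb'.isoPullback.hom ≫ pullback.fst _ _ ≫ x
    rw [Category.comp_id, IsPullback.isoPullback_hom_fst_assoc]
  · show Spec.map _ ≫ 𝟙 _ = 𝟙 _ ≫ colimit.ι F p ≫ f
    rw [Category.comp_id, Category.id_comp, hf]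
  · simp

end Groth.Agent.DefH13
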