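import Groth.Agent.Lib.DefH13.Up
import Groth.Agent.Lib.HilbRS3.Tangent
import Groth.Agent.Lib.ArtFun.Tangent

/-!
# Local retractions of deformations and their differences
-/

set_option autoImplicit false
set_option linter.style.haveILetI false
set_option backward.isDefEq.respectTransparency.types false

universe u

open CategoryTheory CategoryTheory.Limits AlgebraicGeometry TopologicalSpace IsLocalRing

namespace Groth.Agent.DefH13

open ArtFun DefGlue3

variable {k : Type u} [Field k] {X : Scheme.{u}} {x : X ⟶ Spec (CommRingCat.of k)} {A B : Art k k}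

/-- A retraction of a deformation over an open of the closed fibre, on sections over affine opens. -/
structure Ret (ξ : DefSch X x A) (V : X.Opens) : Type u where
  app : ∀ W : X.affineOpens, W.1 ≤ V → (Γ(X, W.1) →+* Γ(ξ.total, up ξ W.1))
  sect : ∀ W hW r, iW ξ W.1 (app W hW r) = r
  str : ∀ W hW c, app W hW (ThickAff3.str x W.1 c) = ThickAff3.str ξ.f (up ξ W.1) (algebraMap k A c)
  nat : ∀ W hW W' hW' (h : W'.1 ≤ W.1) r,
    ξ.total.presheaf.map (homOfLE (up_mono ξ h)).op (app W hW r) = app W' hW' (X.presheaf.map (homOfLE h).op r)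

namespace Ret

variable {ξ : DefSch X x A} {η : DefSch X x B} {φ : A ⟶ B} {g : η.total ⟶ ξ.total} {V : X.Opens}

/-- Restriction to a smaller open. -/
def res (R : Ret ξ V) {V' : X.Opens} (h : V' ≤ V) : Ret ξ V' where
  app W hW := R.app W (hW.trans h)
  sect W hW := R.sect W (hW.trans h)
  str W hW := R.str W (hW.trans h)
  nat W hW W' hW' := R.nat W (hW.trans h) W' (hW'.trans h)

/-- The retraction of a pullback. -/
noncomputable def pull (h : Over' φ ξ η g) (R : Ret ξ V) : Ret η V where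
  app W hW := (gU h W.1).comp (R.app W hW)
  sect W hW r := (iW_gU h W.1 _).trans (R.sect W hW r)
  str W hW c := by
    show gU h W.1 (R.app W hW _) = _
    rw [R.str, gU_str, AlgHom.commutes φ.toAlgHom]
  nat W hW W' hW' hle r := by
    show η.total.presheaf.map _ (gU h W.1 (R.app W hW r)) = gU h W'.1 (R.app W' hW' _)
    rw [gU_res h hle, R.nat W hW W' hW' hle]

theorem pull_app (h : Over' φ ξ η g) (R : Ret ξ V) (W : X.affineOpens) (hW : W.1 ≤ V) (r : Γ(X, W.1)) :
    (R.pull h).app W hW r = gU h W.1 (R.app W hW r) := rfl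

theorem sub_mem (R R' : Ret ξ V) (W : X.affineOpens) (hW : W.1 ≤ V) (r : Γ(X, W.1)) :
    R'.app W hW r - R.app W hW r ∈ (maximalIdeal A).map (ThickAff3.str ξ.f (up ξ W.1)) := by
  rw [← ker_iW, RingHom.mem_ker, map_sub, R.sect, R'.sect, sub_self]

end Ret

/-- The generator of the dual numbers. -/
noncomputable abbrev ee (k : Type u) [Field k] : (Art.dual k k).carrier := HilbRS3.eps

theorem eq_mul_eps {r : (Art.dual k k).carrier} (h : r ∈ maximalIdeal (Art.dual k k).carrier) :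
    r = algebraMap k _ (TrivSqZeroExt.snd (r : DualNumber k)) * (ee k) := by
  have h0 : TrivSqZeroExt.fst (r : DualNumber k) = 0 := ((Art.dual k k).mem_maximalIdeal_iff r).1 h
  refine TrivSqZeroExt.ext ?_ ?_
  · show TrivSqZeroExt.fst (r : DualNumber k) = TrivSqZeroExt.snd (r : DualNumber k) * 0
    rw [h0, mul_zero]
  · show TrivSqZeroExt.snd (r : DualNumber k) = TrivSqZeroExt.snd (r : DualNumber k) * 1 + 0 * 0
    ring

theorem eps_ann (r : (Art.dual k k).carrier) : (ee k) * r = 0 ↔ r ∈ maximalIdeal (Art.dual k k).carrier := by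
  refine ⟨fun h => HilbRS3.ann_eps r h, fun h => ?_⟩
  rw [eq_mul_eps h, mul_left_comm, HilbRS3.eps_mul_eps, mul_zero]

theorem tsze_eq_sum {n : ℕ} (a : TrivSqZeroExt k (Fin n → k)) (h0 : TrivSqZeroExt.fst a = 0) :
    a = ∑ i, (TrivSqZeroExt.inl (TrivSqZeroExt.snd a i) : TrivSqZeroExt k (Fin n → k)) *
      TrivSqZeroExt.inr (Pi.single i 1) := by
  classical
  simp only [TrivSqZeroExt.inl_mul_inr]
  refine TrivSqZeroExt.ext ?_ ?_
  · rw [h0, TrivSqZeroExt.fst_sum]; simp
  · rw [TrivSqZeroExt.snd_sum]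
    funext j
    simp [Finset.sum_apply, Pi.single_apply]

section Dual

variable {ξ : DefSch X x (Art.dual k k)} {V : X.Opens} (W : X.affineOpens)

theorem str_eps_sq : ThickAff3.str ξ.f (up ξ W.1) (ee k) * ThickAff3.str ξ.f (up ξ W.1) (ee k) = 0 := by
  rw [← map_mul, HilbRS3.eps_mul_eps, map_zero]

theorem eq_of_eps_mul {z z' : Γ(ξ.total, up ξ W.1)}
    (h : ThickAff3.str ξ.f (up ξ W.1) (ee k) * z = ThickAff3.str ξ.f (up ξ W.1) (ee k) * z') :
    iW ξ W.1 z = iW ξ W.1 z' := by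
  rw [← sub_eq_zero, ← map_sub, ← str_mul_eq_zero_iff ξ W eps_ann, mul_sub, h, sub_self]

theorem eps_mul_eq {z z' : Γ(ξ.total, up ξ W.1)} (h : iW ξ W.1 z = iW ξ W.1 z') :
    ThickAff3.str ξ.f (up ξ W.1) (ee k) * z = ThickAff3.str ξ.f (up ξ W.1) (ee k) * z' := by
  rw [← sub_eq_zero, ← mul_sub, str_mul_eq_zero_iff ξ W eps_ann, map_sub, h, sub_self]

theorem exists_dif (R R' : Ret ξ V) (hW : W.1 ≤ V) (r : Γ(X, W.1)) :
    ∃ d : Γ(X, W.1), R'.app W hW r = R.app W hW r + ThickAff3.str ξ.f (up ξ W.1) (ee k) * R.app W hW d := by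
  have h := Ret.sub_mem R R' W hW r
  rw [show maximalIdeal (Art.dual k k).carrier = Ideal.span {(ee k)} from le_antisymm
    (fun r hr => by rw [eq_mul_eps hr]; exact Ideal.mul_mem_left _ _ (Ideal.mem_span_singleton_self _))
    ((Ideal.span_singleton_le_iff_mem _).2 (((Art.dual k k).mem_maximalIdeal_iff _).2 (TrivSqZeroExt.fst_inr k (1 : k)))),
    Ideal.map_span, Set.image_singleton, Ideal.mem_span_singleton'] at h
  obtain ⟨a, ha⟩ := h
  refine ⟨iW ξ W.1 a, ?_⟩
  rw [eps_mul_eq W (R.sect W hW (iW ξ W.1 a)), mul_comm, ha]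
  ring

variable {W}

/-- The difference of two retractions. -/
noncomputable def dif (R R' : Ret ξ V) (W : X.affineOpens) (hW : W.1 ≤ V) (r : Γ(X, W.1)) : Γ(X, W.1) :=
  (exists_dif W R R' hW r).choose

theorem dif_spec (R R' : Ret ξ V) (hW : W.1 ≤ V) (r : Γ(X, W.1)) :
    R'.app W hW r = R.app W hW r + ThickAff3.str ξ.f (up ξ W.1) (ee k) * R.app W hW (dif R R' W hW r) :=
  (exists_dif W R R' hW r).choose_spec

theorem dif_eq (R R' : Ret ξ V) (hW : W.1 ≤ V) {r d : Γ(X, W.1)} {z : Γ(ξ.total, up ξ W.1)} (hz : iW ξ W.1 z = d)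
    (h : R'.app W hW r = R.app W hW r + ThickAff3.str ξ.f (up ξ W.1) (ee k) * z) : dif R R' W hW r = d := by
  have e := dif_spec R R' hW r
  rw [h, add_right_inj] at e
  have e' := eq_of_eps_mul W e
  rw [R.sect, hz] at e'
  exact e'.symm

theorem dif_add (R R' : Ret ξ V) (hW : W.1 ≤ V) (a b : Γ(X, W.1)) :
    dif R R' W hW (a + b) = dif R R' W hW a + dif R R' W hW b := by
  refine dif_eq R R' hW (R.sect W hW _) ?_
  rw [map_add, dif_spec R R' hW a, dif_spec R R' hW b, map_add, map_add]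
  ring

theorem dif_mul (R R' : Ret ξ V) (hW : W.1 ≤ V) (a b : Γ(X, W.1)) :
    dif R R' W hW (a * b) = a * dif R R' W hW b + b * dif R R' W hW a := by
  refine dif_eq R R' hW (R.sect W hW _) ?_
  rw [map_mul, dif_spec R R' hW a, dif_spec R R' hW b, map_mul, map_add, map_mul, map_mul]
  have h0 := str_eps_sq (ξ := ξ) W
  linear_combination (R.app W hW (dif R R' W hW a) * R.app W hW (dif R R' W hW b)) * h0

theorem dif_str (R R' : Ret ξ V) (hW : W.1 ≤ V) (c : k) : dif R R' W hW (ThickAff3.str x W.1 c) = 0 := by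
  refine dif_eq R R' hW (map_zero _) ?_
  rw [R.str, R'.str, mul_zero, add_zero]

theorem dif_res (R R' : Ret ξ V) (hW : W.1 ≤ V) {W' : X.affineOpens} (hW' : W'.1 ≤ V) (h : W'.1 ≤ W.1)
    (r : Γ(X, W.1)) :
    X.presheaf.map (homOfLE h).op (dif R R' W hW r) = dif R R' W' hW' (X.presheaf.map (homOfLE h).op r) := by
  refine (dif_eq R R' hW' (z := R.app W' hW' (X.presheaf.map (homOfLE h).op (dif R R' W hW r))) (R.sect _ _ _) ?_).symm
  rw [← R'.nat W hW W' hW' h, dif_spec R R' hW r, map_add, map_mul, R.nat W hW W' hW' h, R.nat W hW W' hW' h]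
  congr 2
  exact ThickAff3.res_str ξ.f (up_mono ξ h) (ee k)

theorem dif_trans (R R' R'' : Ret ξ V) (hW : W.1 ≤ V) (r : Γ(X, W.1)) :
    dif R R'' W hW r = dif R R' W hW r + dif R' R'' W hW r := by
  refine dif_eq R R'' hW (R.sect W hW _) ?_
  rw [dif_spec R' R'' hW r, dif_spec R R' hW r, eps_mul_eq W ((R'.sect W hW (dif R' R'' W hW r)).trans
    (R.sect W hW (dif R' R'' W hW r)).symm), map_add, mul_add]
  ring

theorem dif_res_open (R R' : Ret ξ V) {V' : X.Opens} (h : V' ≤ V) (hW : W.1 ≤ V') (r : Γ(X, W.1)) :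
    dif (R.res h) (R'.res h) W hW r = dif R R' W (hW.trans h) r :=
  dif_eq _ _ hW ((R.res h).sect W hW _) (dif_spec R R' (hW.trans h) r)

theorem dif_pull {η : DefSch X x (Art.dual k k)} {g : ξ.total ⟶ η.total} (h : Over' (𝟙 _) η ξ g)
    (R R' : Ret η V) (hW : W.1 ≤ V) (r : Γ(X, W.1)) :
    dif (R.pull h) (R'.pull h) W hW r = dif R R' W hW r := by
  refine dif_eq _ _ hW ((R.pull h).sect W hW _) ?_
  rw [Ret.pull_app, Ret.pull_app, dif_spec R R' hW r, map_add, map_mul, gU_str]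
  rfl

end Dual

/-- Differences on a first-order multi-deformation are linear in the functional. -/
theorem exists_dif_tn {n : ℕ} {ξ : DefSch X x (ArtFunLib.tn k k n)} {V : X.Opens} (R R' : Ret ξ V)
    (W : X.affineOpens) (hW : W.1 ≤ V) (r : Γ(X, W.1)) :
    ∃ v : Fin n → Γ(X, W.1), ∀ (L : (Fin n → k) →ₗ[k] k) (η : DefSch X x (Art.dual k k))
      (g : η.total ⟶ ξ.total) (h : Over' (ArtFunLib.tnDual L) ξ η g),
      dif (R.pull h) (R'.pull h) W hW r = ∑ i, ThickAff3.str x W.1 (L (Pi.single i 1)) * v i := by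
  classical
  let T := ArtFunLib.tn k k n
  let e : Fin n → T.carrier := fun i => (TrivSqZeroExt.inr (Pi.single i 1) : TrivSqZeroExt k (Fin n → k))
  have hspan : maximalIdeal T.carrier = Ideal.span (Set.range e) := by
    refine le_antisymm (fun a ha => ?_) (Ideal.span_le.2 ?_)
    · have h0 : TrivSqZeroExt.fst (a : TrivSqZeroExt k (Fin n → k)) = 0 := (T.mem_maximalIdeal_iff a).1 ha
      have : a = ∑ i, algebraMap k T.carrier ((TrivSqZeroExt.snd (a : TrivSqZeroExt k (Fin n → k))) i) * e i :=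
        tsze_eq_sum a h0
      rw [this]
      exact Ideal.sum_mem _ fun i _ => Ideal.mul_mem_left _ _ (Ideal.subset_span ⟨i, rfl⟩)
    · rintro _ ⟨i, rfl⟩
      exact (T.mem_maximalIdeal_iff _).2 (TrivSqZeroExt.fst_inr k (Pi.single i 1 : Fin n → k))
  have h1 := Ret.sub_mem R R' W hW r
  rw [hspan, Ideal.map_span, ← Set.range_comp] at h1
  obtain ⟨a, ha⟩ := (Submodule.mem_span_range_iff_exists_fun _).1 h1
  refine ⟨fun i => iW ξ W.1 (a i), fun L η g h => ?_⟩
  refine dif_eq _ _ hW (z := ∑ i, ThickAff3.str η.f (up η W.1) (algebraMap k _ (L (Pi.single i 1))) * gU h W.1 (a i)) ?_ ?_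
  · rw [map_sum]
    refine Finset.sum_congr rfl fun i _ => ?_
    rw [map_mul, iW_str, iW_gU, AlgHom.commutes]
    rfl
  · rw [Ret.pull_app, Ret.pull_app, ← sub_eq_iff_eq_add', ← map_sub, ← ha, map_sum, Finset.mul_sum]
    refine Finset.sum_congr rfl fun i _ => ?_
    show gU h W.1 (a i * ThickAff3.str ξ.f _ (e i)) = _
    rw [map_mul, gU_str, show ArtFunLib.tnDual L (e i) = (ee k) * algebraMap k _ (L (Pi.single i 1)) from ?_, map_mul]
    · ring
    · refine TrivSqZeroExt.ext (R := k) (M := k) ?_ ?_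
      · show (0 : k) = 0 * L (Pi.single i 1)
        rw [zero_mul]
      · show L (Pi.single i 1) = (0 : k) * 0 + (1 : k) * L (Pi.single i 1)
        ring

end Groth.Agent.DefH13
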