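import Groth.Agent.Lib.DefH13.Surj
import Groth.Agent.Lib.CubeField.Slice
import Groth.Agent.Lib.HilbObs3.Vanish
import Groth.Agent.Lib.DefGlue3.Functor
import Groth.Agent.Lib.ArtFun.Action
import Groth.Agent.Lib.ArtFun.Smooth

/-!
# Rigidity
-/

set_option autoImplicit false
set_option linter.style.haveILetI false

universe u

open CategoryTheory CategoryTheory.Limits AlgebraicGeometry

namespace Groth.Agent.DefH13

open ArtFun ArtFun.Art ArtFunLib

variable {k : Type u} [Field k] {X : Scheme.{u}} {x : X ⟶ Art.specPt k}

/-- Without first-order deformations there are no infinitesimal deformations. -/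
theorem subsingleton_defFunctor_obj (h : Subsingleton ((defFunctor (Λ := k) X x).obj (dual k k))) (A : Art k k) :
    Subsingleton ((defFunctor (Λ := k) X x).obj A) := by
  refine ⟨fun a b => injective_of_tangent (G := pointFunctor k k) (fun _ _ => PUnit.unit) (fun _ _ => rfl)
    DefGlue3.h0 (s1_hbar DefGlue3.s1) DefGlue3.heps ?_ (fun a b _ => h.elim a b) A rfl⟩
  intro B A A' p' p'' f h' _
  exact rs_pointFunctor p' p'' f f h' (by assumption : IsSmallExt f).1

variable [QuasiCompact x] [IsSeparated x] [Smooth x] [X.Over (Spec (CommRingCat.of k))]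

/-- First-order deformations and the first cohomology of the tangent sheaf vanish together. -/
theorem subsingleton_dual_iff (hx : x = X ↘ Spec (CommRingCat.of k)) :
    Subsingleton ((defFunctor (Λ := k) X x).obj (dual k k)) ↔ Subsingleton (Coh.HH X (NT x) 1) := by
  obtain ⟨T⟩ := ArtFunLib.nonempty_tangentStr (F := defFunctor (Λ := k) X x) DefGlue3.h0 DefGlue3.heps
  haveI : CompactSpace X := QuasiCompact.compactSpace_of_compactSpace x
  obtain ⟨n, U, hU, hV⟩ := CubeField.exists_finite_affine_cover X
  exact (Equiv.ofBijective _ (clsLin_bijective (V := fun i => ⟨U i, hU i⟩) hV hx)).subsingleton_congr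

end Groth.Agent.DefH13
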