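import Groth.Agent.Lib.DefH13.Real

/-!
# Every class is the class of a first-order deformation
-/

set_option autoImplicit false
set_option linter.style.haveILetI false
set_option backward.isDefEq.respectTransparency.types false

universe u

open CategoryTheory CategoryTheory.Limits AlgebraicGeometry TopologicalSpace IsLocalRing Opposite

namespace Groth.Agent.DefH13

open ArtFun ArtFun.Art DefGlue3 HilbRS3 HilbObs3 HomTan3 CubeField

variable {k : Type u} [Field k] {X : Scheme.{u}} {x : X ⟶ Art.specPt k} [QuasiSeparated x]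
  {n : ℕ} {V : Fin n → X.affineOpens}

omit [QuasiSeparated x] in
/-- Coordinates on a chart of a deformation. -/
theorem exists_coord (ξ : DefSch X x (dual k k)) (W : X.affineOpens) (c : Spec (BW x W) ⟶ ξ.total) [IsOpenImmersion c]
    (hi : W.1.ι ≫ ξ.i = jW x W ≫ c) (hf : c ≫ ξ.f = Spec.map (CommRingCat.ofHom (cσ x (dual k k) W))) :
    ∃ e : Γ(ξ.total, up ξ W.1) →+* BW x W, Function.Bijective e ∧
      Spec.map (CommRingCat.ofHom e) ≫ (isAffineOpen_up ξ W.2).fromSpec = c ∧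
      (∀ z, cι₀ x (dual k k) W (e z) = iW ξ W.1 z) ∧
      ∀ a, e (ThickAff3.str ξ.f (up ξ W.1) a) = cσ x (dual k k) W a := by
  have hrange : Set.range c = Set.range (isAffineOpen_up ξ W.2).fromSpec := by
    rw [(isAffineOpen_up ξ W.2).range_fromSpec]
    refine Set.Subset.antisymm ?_ ?_
    · rintro _ ⟨w, rfl⟩
      obtain ⟨a, rfl⟩ := (surjective_jW (x := x) W).surj w
      exact ⟨a.1, a.2, congrArg (fun m : W.1.toScheme ⟶ ξ.total => m a) hi⟩
    · rintro _ ⟨a, ha, rfl⟩
      exact ⟨jW x W ⟨a, ha⟩, (congrArg (fun m : W.1.toScheme ⟶ ξ.total => m ⟨a, ha⟩) hi).symm⟩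
  let I := IsOpenImmersion.isoOfRangeEq c (isAffineOpen_up ξ W.2).fromSpec hrange
  let E := Spec.preimage I.hom
  have hE : Spec.map E = I.hom := Spec.map_preimage _
  haveI : IsIso (Spec.map E) := hE ▸ inferInstance
  haveI : IsIso E := by
    have : E ≫ Spec.preimage I.inv = 𝟙 _ ∧ Spec.preimage I.inv ≫ E = 𝟙 _ := by
      constructor <;> refine Spec.map_injective ?_ <;> rw [Spec.map_comp, Spec.map_id, hE, Spec.map_preimage]
      · exact I.inv_hom_id
      · exact I.hom_inv_id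
    exact ⟨_, this.1, this.2⟩
  have hc : Spec.map (CommRingCat.ofHom E.hom) ≫ (isAffineOpen_up ξ W.2).fromSpec = c := by
    rw [CommRingCat.ofHom_hom, hE]
    exact IsOpenImmersion.isoOfRangeEq_hom_fac _ _ _
  refine ⟨E.hom, ConcreteCategory.bijective_of_isIso E, hc, fun z => ?_, fun a => ?_⟩
  · have e : E ≫ CommRingCat.ofHom (cι₀ x (dual k k) W) = ξ.i.appLE (up ξ W.1) W.1 (pre_up ξ W.1).ge := by
      refine Spec.map_injective ((cancel_mono (isAffineOpen_up ξ W.2).fromSpec).1 ?_)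
      rw [IsAffineOpen.SpecMap_appLE_fromSpec ξ.i (isAffineOpen_up ξ W.2) W.2, Spec.map_comp, Category.assoc,
        ← CommRingCat.ofHom_hom E, hc, ← W.2.isoSpec_inv_ι, Category.assoc, hi]
      show _ = W.2.isoSpec.inv ≫ (W.2.isoSpec.hom ≫ _) ≫ c
      rw [Category.assoc, Iso.inv_hom_id_assoc]
    exact congrArg (fun φ : Γ(ξ.total, up ξ W.1) ⟶ Γ(X, W.1) => φ.hom z) e
  · have e : ((Scheme.ΓSpecIso (CommRingCat.of (dual k k : Art k k))).inv ≫ ξ.f.appLE ⊤ (up ξ W.1) le_top) ≫ E =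
        CommRingCat.ofHom (cσ x (dual k k) W) := by
      refine Spec.map_injective ?_
      have h2 := IsAffineOpen.SpecMap_appLE_fromSpec ξ.f (isAffineOpen_top _) (isAffineOpen_up ξ W.2) le_top
      rw [Spec.map_comp, Spec.map_comp, ← hf, ← hc, Category.assoc, ← h2, CommRingCat.ofHom_hom]
      refine congrArg (fun m => Spec.map E ≫ Spec.map (ξ.f.appLE ⊤ (up ξ W.1) le_top) ≫ m) ?_
      rw [IsAffineOpen.fromSpec_top]
      exact (Scheme.isoSpec_Spec_inv _).symm
    exact congrArg (fun φ : CommRingCat.of (dual k k : Art k k) ⟶ BW x W => φ.hom a) e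

theorem exists_isCls_of_cocycle (hcov : ⨆ i, (V i).1 = ⊤) (s : ∀ i j, (FT x).obj.obj (op ((V i).1 ⊓ (V j).1)))
    (hs : IsCocycleAb (FT x) (fun i => (V i).1) s) {c : CohFound.Hc (FT x) 1 (⊤ : X.Opens)}
    (hc : IsClass (FT x) (fun i => (V i).1) s c) : ∃ ξ : DefSch X x (dual k k), IsCls x V ξ c := by
  obtain ⟨ξ, ι, hι, hi, hf, hmap⟩ := exists_glued hs hcov
  have he := fun p : Pr V => haveI := hι p; exists_coord ξ p.W (ι p) (hi p) (hf p)
  choose e hbij hfac he0 heσ using he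
  have hnat : ∀ (p q : Pr V) (h : p ≤ q) (z : Γ(ξ.total, up ξ q.W.1)),
      e p (ξ.total.presheaf.map (homOfLE (up_mono ξ h)).op z) = phi s h (e q z) := fun p q h z => by
    have h1 : ξ.total.presheaf.map (homOfLE (up_mono ξ (show p.W.1 ≤ q.W.1 from h))).op ≫ CommRingCat.ofHom (e p) =
        CommRingCat.ofHom (e q) ≫ CommRingCat.ofHom (phi s h) := by
      refine Spec.map_injective ((cancel_mono (isAffineOpen_up ξ q.W.2).fromSpec).1 ?_)
      rw [Spec.map_comp, Spec.map_comp, Category.assoc, Category.assoc,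
        IsAffineOpen.map_fromSpec _ (isAffineOpen_up ξ p.W.2), hfac p, hfac q]
      exact (hmap p q h).symm
    exact congrArg (fun φ : Γ(ξ.total, up ξ q.W.1) ⟶ BW x p.W => φ.hom z) h1
  let E := fun p : Pr V => RingEquiv.ofBijective (e p) (hbij p)
  let R : ∀ i, Ret ξ (V i).1 := fun i =>
    { app := fun W hW => (E ⟨i, W, hW⟩).symm.toRingHom.comp (cι x (dual k k) W)
      sect := fun W hW r => by
        show iW ξ W.1 ((E ⟨i, W, hW⟩).symm (cι x (dual k k) W r)) = r
        refine ((he0 ⟨i, W, hW⟩ _).symm.trans ?_)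
        exact (congrArg (cι₀ x (dual k k) W) ((E ⟨i, W, hW⟩).apply_symm_apply _)).trans (cι₀_cι x (dual k k) W r)
      str := fun W hW a => by
        show (E ⟨i, W, hW⟩).symm (cι x (dual k k) W (ThickAff3.str x W.1 a)) = _
        rw [RingEquiv.symm_apply_eq]
        exact (cι_str x (dual k k) W a).trans (heσ ⟨i, W, hW⟩ _).symm
      nat := fun W hW W' hW' h r => by
        refine (hbij ⟨i, W', hW'⟩).1 ?_
        show e ⟨i, W', hW'⟩ (ξ.total.presheaf.map (homOfLE (up_mono ξ h)).op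
          ((E ⟨i, W, hW⟩).symm (cι x (dual k k) W r))) =
          E ⟨i, W', hW'⟩ ((E ⟨i, W', hW'⟩).symm (cι x (dual k k) W' (X.presheaf.map (homOfLE h).op r)))
        rw [RingEquiv.apply_symm_apply, hnat ⟨i, W', hW'⟩ ⟨i, W, hW⟩ h,
          show e ⟨i, W, hW⟩ ((E ⟨i, W, hW⟩).symm (cι x (dual k k) W r)) = cι x (dual k k) W r from
            (E ⟨i, W, hW⟩).apply_symm_apply _,
          phi_cι s (show (⟨i, W', hW'⟩ : Pr V) ≤ ⟨i, W, hW⟩ from h) r, der_self hs i W' hW', map_zero, mul_zero, add_zero]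
        rfl }
  have hR : ∀ (i : Fin n) (W : X.affineOpens) (hW : W.1 ≤ (V i).1) (r : Γ(X, W.1)),
      e ⟨i, W, hW⟩ ((R i).app W hW r) = cι x (dual k k) W r := fun i W hW r => (E ⟨i, W, hW⟩).apply_symm_apply _
  refine ⟨ξ, R, s, fun i j W hW b => (dif_eq ((R i).res inf_le_left) ((R j).res inf_le_right) hW
    (((R i).res inf_le_left).sect W hW _) ?_).symm, hc⟩
  refine (hbij ⟨i, W, hW.trans inf_le_left⟩).1 ?_
  show e ⟨i, W, hW.trans inf_le_left⟩ ((R j).app W (hW.trans inf_le_right) b) =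
    e ⟨i, W, hW.trans inf_le_left⟩ ((R i).app W (hW.trans inf_le_left) b + ThickAff3.str ξ.f (up ξ W.1) (ee k) *
      (R i).app W (hW.trans inf_le_left) (der (asT x (s i j)) W hW b))
  rw [map_add, map_mul, hR, hR, heσ]
  have h1 := hnat ⟨i, W, hW.trans inf_le_left⟩ ⟨j, W, hW.trans inf_le_right⟩ (le_refl W.1)
    ((R j).app W (hW.trans inf_le_right) b)
  rw [hR, phi_cι] at h1
  have e1 : ∀ (h : W.1 ≤ W.1) (b : Γ(X, W.1)), X.presheaf.map (homOfLE h).op b = b := fun h b => by simp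
  simp only [homOfLE_refl, op_id, CategoryTheory.Functor.map_id] at h1
  erw [e1] at h1
  exact h1.trans rfl

theorem exists_isCls_of_class [Smooth x] (hcov : ⨆ i, (V i).1 = ⊤) (c : CohFound.Hc (FT x) 1 (⊤ : X.Opens)) :
    ∃ ξ : DefSch X x (dual k k), IsCls x V ξ c := by
  obtain ⟨s, hs, hc⟩ := exists_coc_isClass (NT x) (isQCoh_NT x) V c
  exact exists_isCls_of_cocycle hcov s hs hc

variable [Smooth x] [X.Over (Spec (CommRingCat.of k))] [TangentStr (defFunctor (Λ := k) X x)]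

/-- First-order deformations are the first cohomology of the tangent sheaf. -/
theorem clsLin_bijective (hcov : ⨆ i, (V i).1 = ⊤) (hx : x = X ↘ Spec (CommRingCat.of k)) :
    Function.Bijective (clsLin hcov hx) := by
  refine ⟨clsLin_injective hcov hx, fun z => ?_⟩
  obtain ⟨ξ, hξ⟩ := exists_isCls_of_class hcov (CohFound.hhExt (NT x) 1 z)
  refine ⟨TangentSpace.mk ξ.cl, ?_⟩
  show (CohFound.hhExt (NT x) 1).symm (clsN hcov ξ) = z
  rw [isCls_unique hcov (isCls_clsN hcov ξ) hξ, AddEquiv.symm_apply_apply]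

end Groth.Agent.DefH13
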