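import Groth.Agent.Lib.DefGlue3.Functor
import Groth.Agent.Lib.HilbRS3.Fibre

/-!
# Extensions of a deformation as a torsor
-/

set_option autoImplicit false
set_option linter.style.haveILetI false
set_option backward.isDefEq.respectTransparency.types false

universe u

open CategoryTheory CategoryTheory.Limits AlgebraicGeometry

namespace Groth.Agent.DefH13

open ArtFun ArtFun.Art DefGlue3 ArtFunLib

variable {k : Type u} [Field k] {X : Scheme.{u}} {x : X ⟶ Art.specPt k} {B A : Art k k}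

section

variable (p : B ⟶ A) (𝒳 : DefSch X x A)

/-- Extensions of a deformation. -/
abbrev PtG := Σ ξ : DefSch X x B, (ξ.baseChange p).Iso 𝒳

/-- Isomorphism of extensions. -/
abbrev RelG (a b : PtG p 𝒳) : Prop := ∃ ψ : a.1.Iso b.1, ((ψ.baseChange p).trans b.2).iso = a.2.iso

end

variable {p : B ⟶ A} {𝒳 : DefSch X x A}

/-- The inclusion of the given deformation in an extension. -/
noncomputable def embG (a : PtG p 𝒳) : 𝒳.total ⟶ a.1.total := a.2.iso.inv ≫ pullback.fst _ _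

theorem over_embG (a : PtG p 𝒳) : Over' p a.1 𝒳 (embG a) := (Over'.bc a.1 p).isoComp a.2.symm

theorem relG_iff (a b : PtG p 𝒳) : RelG p 𝒳 a b ↔ ∃ ψ : a.1.Iso b.1, embG a ≫ ψ.iso.hom = embG b := by
  refine exists_congr fun ψ => ⟨fun h => ?_, fun h => Iso.ext ?_⟩
  · have h' : DefSch.pullMap ψ.iso.hom ψ.hom_f p ≫ b.2.iso.hom = a.2.iso.hom := congrArg Iso.hom h
    have h'' : b.2.iso.inv = a.2.iso.inv ≫ DefSch.pullMap ψ.iso.hom ψ.hom_f p := by
      rw [Iso.eq_inv_comp, Iso.comp_inv_eq]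
      exact h'.symm
    rw [embG, embG, h'', Category.assoc, Category.assoc, DefSch.pullMap_fst]
  · show DefSch.pullMap ψ.iso.hom ψ.hom_f p ≫ b.2.iso.hom = a.2.iso.hom
    have h' : a.2.iso.inv ≫ DefSch.pullMap ψ.iso.hom ψ.hom_f p = b.2.iso.inv := by
      apply pullback.hom_ext
      · rw [Category.assoc, DefSch.pullMap_fst, ← Category.assoc]
        exact h
      · rw [Category.assoc, DefSch.pullMap_snd]
        exact a.2.symm.hom_f.trans b.2.symm.hom_f.symm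
    rw [← Iso.eq_comp_inv]
    exact (Iso.inv_comp_eq _).1 h'

variable {P T : Art k k} {p₁ p₂ : P ⟶ B} {g : P ⟶ T}

/-- The difference of two extensions. -/
def IsDiff (p₁ p₂ : P ⟶ B) (g : P ⟶ T) (a₀ b : PtG p 𝒳) (z : (defFunctor (Λ := k) X x).obj T) : Prop :=
  ∃ (η : DefSch X x P) (a : b.1.total ⟶ η.total) (a' : a₀.1.total ⟶ η.total),
    Over' p₁ η a₀.1 a' ∧ Over' p₂ η b.1 a ∧ embG b ≫ a = embG a₀ ≫ a' ∧ (defFunctor X x).map g η.cl = z

theorem nonempty_quot_equiv (hp : Function.Surjective p) (hP : IsFibreProd p₁ p₂ p p)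
    (h' : IsFibreProd p₁ g (toBase B) (toBase T)) (a₀ : PtG p 𝒳) :
    Nonempty (Quot (RelG p 𝒳) ≃ (defFunctor (Λ := k) X x).obj T) := by
  have hex : ∀ b : PtG p 𝒳, ∃ z, IsDiff p₁ p₂ g a₀ b z := fun b => by
    obtain ⟨η, a, a', h1, h2, hc, -⟩ := exists_glue hP hp (over_embG a₀) (over_embG b)
    exact ⟨_, η, a, a', h1, h2, hc, rfl⟩
  have huniq : ∀ (b : PtG p 𝒳) z z', IsDiff p₁ p₂ g a₀ b z → IsDiff p₁ p₂ g a₀ b z' → z = z' := by
    rintro b z z' ⟨η, a, a', h1, h2, hc, rfl⟩ ⟨η', c, c', h1', h2', hc', rfl⟩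
    obtain ⟨η₀, _, _, _, _, _, hu⟩ := exists_glue hP hp (over_embG a₀) (over_embG b)
    obtain ⟨e, -, -⟩ := hu η a a' h1 h2 hc
    obtain ⟨e', -, -⟩ := hu η' c c' h1' h2' hc'
    exact congrArg _ (Quotient.sound ⟨e.symm.trans e'⟩)
  choose θ hθ using hex
  have hrel : ∀ b b', RelG p 𝒳 b b' → θ b = θ b' := fun b b' hbb => by
    obtain ⟨η, a, a', h1, h2, hc, hz⟩ := hθ b
    obtain ⟨ψ, hψ⟩ := (relG_iff b b').1 hbb
    refine huniq b' _ _ ⟨η, ψ.symm.iso.hom ≫ a, a', h1, h2.isoComp ψ.symm, ?_, hz⟩ (hθ b')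
    show embG b' ≫ ψ.iso.inv ≫ a = _
    rw [← hψ, Category.assoc, Iso.hom_inv_id_assoc]
    exact hc
  have hbase : ∀ ζ : DefSch X x T, ∃ (ζ₀ : DefSch X x (base k k)) (g1 : ζ₀.total ⟶ a₀.1.total)
      (g2 : ζ₀.total ⟶ ζ.total), Over' (toBase B) a₀.1 ζ₀ g1 ∧ Over' (toBase T) ζ ζ₀ g2 := fun ζ => by
    obtain ⟨g1, hg1⟩ := exists_over_of_cl (φ := toBase B) (ξ := a₀.1) (η := ζ.baseChange (toBase T))
      (subsingleton_base DefGlue3.h0 _ _)
    exact ⟨_, g1, _, hg1, Over'.bc ζ _⟩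
  have hf : Function.Surjective (toBase T) := surjective_toBase T
  refine ⟨Equiv.ofBijective (Quot.lift θ hrel) ⟨?_, ?_⟩⟩
  · intro q q'
    induction q using Quot.ind with
    | mk b =>
    induction q' using Quot.ind with
    | mk b₂ =>
    intro hbb
    change θ b = θ b₂ at hbb
    obtain ⟨η, a, a', h1, h2, hc, hz⟩ := hθ b
    obtain ⟨η₂, a₂, a₂', k1, k2, kc, kz⟩ := hθ b₂
    obtain ⟨ζ, hζ⟩ := Quotient.exists_rep (θ b)
    obtain ⟨c, hcz⟩ := exists_over_of_cl (φ := g) (ξ := η) (η := ζ) (hz.trans hζ.symm)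
    obtain ⟨c₂, hcz₂⟩ := exists_over_of_cl (φ := g) (ξ := η₂) (η := ζ) ((kz.trans hbb.symm).trans hζ.symm)
    obtain ⟨ζ₀, g1, g2, hg1, hg2⟩ := hbase ζ
    obtain ⟨η₀, _, _, _, _, _, hu⟩ := exists_glue h' hf hg1 hg2
    have hh : ∀ {η : DefSch X x P} {a' : a₀.1.total ⟶ η.total} {c : ζ.total ⟶ η.total},
        Over' p₁ η a₀.1 a' → Over' g η ζ c → g2 ≫ c = g1 ≫ a' := fun h1 hc => by
      rw [← cancel_epi ζ₀.i, ← Category.assoc, hg2.hi, hc.hi, ← Category.assoc, hg1.hi, h1.hi]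
    obtain ⟨e, -, he⟩ := hu η c a' h1 hcz (hh h1 hcz)
    obtain ⟨e₂, -, he₂⟩ := hu η₂ c₂ a₂' k1 hcz₂ (hh k1 hcz₂)
    have hE : a' ≫ (e.symm.trans e₂).iso.hom = a₂' := by
      show a' ≫ e.iso.inv ≫ e₂.iso.hom = a₂'
      rw [← he, Category.assoc, Iso.hom_inv_id_assoc, he₂]
    obtain ⟨ψ, hψ⟩ := k2.exists_iso (h2.compIso (e.symm.trans e₂))
    refine Quot.sound ((relG_iff b b₂).2 ⟨ψ, k2.isPullback.hom_ext ?_ ?_⟩)
    · rw [Category.assoc, hψ, ← Category.assoc, hc, Category.assoc, hE, ← kc]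
    · rw [Category.assoc, ψ.hom_f, (over_embG b).w, (over_embG b₂).w]
  · intro z
    induction z using Quotient.inductionOn with
    | h ζ =>
    obtain ⟨ζ₀, g1, g2, hg1, hg2⟩ := hbase ζ
    obtain ⟨η, c, a', h1, hc, -, -⟩ := exists_glue h' hf hg1 hg2
    have hb := Over'.bc η p₂
    have hA : Over' (p₂ ≫ p) η 𝒳 (embG a₀ ≫ a') := hP.w ▸ h1.comp (over_embG a₀)
    obtain ⟨e, he⟩ := hA.exists_iso (hb.comp (Over'.bc (η.baseChange p₂) p))
    refine ⟨Quot.mk _ ⟨η.baseChange p₂, e⟩, huniq _ _ _ (hθ _) ⟨η, _, a', h1, hb, ?_, hc.cl_map⟩⟩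
    show (e.iso.inv ≫ pullback.fst _ _) ≫ pullback.fst _ _ = _
    rw [Category.assoc, Iso.inv_comp_eq]
    exact he.symm

end Groth.Agent.DefH13
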