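import Groth.Agent.Lib.DefH13.Exist
import Groth.Agent.Lib.HilbObs3.Vanish
import Groth.Agent.Lib.HilbObs3.Glue
import Groth.Agent.Lib.DefAut3.Der
import Groth.Agent.Lib.HilbObs3.Obs

/-!
# Sections of the tangent sheaf as derivations on affine opens
-/

set_option autoImplicit false
set_option linter.style.haveILetI false
set_option backward.isDefEq.respectTransparency.types false

universe u

open CategoryTheory CategoryTheory.Limits AlgebraicGeometry TopologicalSpace Opposite

namespace Groth.Agent.DefH13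

variable {k : Type u} [Field k] {X : Scheme.{u}} (x : X ⟶ Spec (CommRingCat.of k))

/-- The tangent sheaf. -/
noncomputable abbrev NT : X.Modules := M2.homMod (Omega.sheaf x) (Coh.structureModule X)

/-- Sections of the tangent sheaf over an open. -/
abbrev TSec (U : X.Opens) : Type u := M2.HomSec (Omega.sheaf x) (Coh.structureModule X) U

variable {x} {U : X.Opens} [QuasiSeparated x]

/-- The derivation of a section. -/
noncomputable def der (s : TSec x U) (W : X.affineOpens) (hW : W.1 ≤ U) (b : Γ(X, W.1)) : Γ(X, W.1) :=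
  s.1 ⟨W.1, hW⟩ (OmegaSh.dSect x W.1 b)

theorem der_add_arg (s : TSec x U) (W : X.affineOpens) (hW : W.1 ≤ U) (a b : Γ(X, W.1)) :
    der s W hW (a + b) = der s W hW a + der s W hW b := by
  show s.1 _ _ = _
  rw [OmegaSh.dSect_add]
  exact map_add _ _ _

theorem der_mul (s : TSec x U) (W : X.affineOpens) (hW : W.1 ≤ U) (a b : Γ(X, W.1)) :
    der s W hW (a * b) = a * der s W hW b + b * der s W hW a := by
  show s.1 _ _ = _
  rw [OmegaSh.dSect_mul, map_add, map_smul, map_smul]
  rfl

theorem der_str (s : TSec x U) (W : X.affineOpens) (hW : W.1 ≤ U) (c : k) :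
    der s W hW (ThickAff3.str x W.1 c) = 0 := by
  show s.1 ⟨W.1, hW⟩ (OmegaSh.dSect x W.1 (x.appLE ⊤ W.1 le_top ((Scheme.ΓSpecIso (CommRingCat.of k)).inv c))) = _
  rw [OmAff.dSect_appLE]
  exact map_zero _

theorem der_res (s : TSec x U) (W : X.affineOpens) (hW : W.1 ≤ U) (W' : X.affineOpens) (hW' : W'.1 ≤ U)
    (h : W'.1 ≤ W.1) (b : Γ(X, W.1)) :
    X.presheaf.map (homOfLE h).op (der s W hW b) = der s W' hW' (X.presheaf.map (homOfLE h).op b) := by
  refine ((s.2 ⟨W.1, hW⟩ ⟨W'.1, hW'⟩ h (OmegaSh.dSect x W.1 b)).symm).trans ?_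
  exact congrArg (s.1 ⟨W'.1, hW'⟩) (OmegaSh.dSect_map x h b).symm

theorem der_add (s t : TSec x U) (W : X.affineOpens) (hW : W.1 ≤ U) (b : Γ(X, W.1)) :
    der (s + t) W hW b = der s W hW b + der t W hW b := rfl

theorem der_sub (s t : TSec x U) (W : X.affineOpens) (hW : W.1 ≤ U) (b : Γ(X, W.1)) :
    der (s - t) W hW b = der s W hW b - der t W hW b := rfl

theorem der_neg (s : TSec x U) (W : X.affineOpens) (hW : W.1 ≤ U) (b : Γ(X, W.1)) :
    der (-s) W hW b = - der s W hW b := rfl

theorem tsec_ext {s t : TSec x U}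
    (h : ∀ (W : X.affineOpens) (hW : W.1 ≤ U) (b : Γ(X, W.1)), der s W hW b = der t W hW b) : s = t := by
  refine HilbObs3.homSec_ext fun W hW m => ?_
  exact DFunLike.congr_fun (Omega12.sect_ext x W.2 (isAffineOpen_top _) le_top (RingHom.id Γ(X, W.1))
    (R := Γ(X, W.1)) (A := Γ(Coh.structureModule X, W.1))
    (s.1 ⟨W.1, hW⟩).toAddMonoidHom (t.1 ⟨W.1, hW⟩).toAddMonoidHom
    (fun r z => (s.1 ⟨W.1, hW⟩).map_smul r z) (fun r z => (t.1 ⟨W.1, hW⟩).map_smul r z) (fun b => h W hW b)) m

/-- A compatible family of derivations is a section. -/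
theorem exists_tsec (D : ∀ W : X.affineOpens, W.1 ≤ U → Γ(X, W.1) → Γ(X, W.1))
    (hadd : ∀ W hW a b, D W hW (a + b) = D W hW a + D W hW b)
    (hmul : ∀ W hW a b, D W hW (a * b) = a * D W hW b + b * D W hW a)
    (hconst : ∀ W hW c, D W hW (ThickAff3.str x W.1 c) = 0)
    (hres : ∀ W hW W' hW' (h : W'.1 ≤ W.1) a,
      X.presheaf.map (homOfLE h).op (D W hW a) = D W' hW' (X.presheaf.map (homOfLE h).op a)) :
    ∃ s : TSec x U, ∀ W hW b, der s W hW b = D W hW b := by
  let M := Coh.structureModule X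
  have key : ∀ (W : X.affineOpens) (hW : W.1 ≤ U), ∃ l : Γ(Omega.sheaf x, W.1) →+ Γ(M, W.1),
      (∀ (r : Γ(X, W.1)) (m : Γ(Omega.sheaf x, W.1)), l (r • m) = r • l m) ∧
        ∀ b, l (OmegaSh.dSect x W.1 b) = D W hW b := by
    intro W hW
    let T := OmAff.toSect x ⊤ W.1 le_top
    haveI : IsIso T := (ConcreteCategory.isIso_iff_bijective T).2
      (Omega12.bijective_toSect x W.2 (isAffineOpen_top _) le_top)
    let dd : (OmAff.sectMod M W.1).Derivation (x.appLE ⊤ W.1 le_top) :=
      ModuleCat.Derivation.mk (fun b => (D W hW b : Γ(M, W.1))) (hadd W hW) (hmul W hW) fun c => by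
        have := hconst W hW ((Scheme.ΓSpecIso (CommRingCat.of k)).hom c)
        rw [show ThickAff3.str x W.1 ((Scheme.ΓSpecIso (CommRingCat.of k)).hom c) = x.appLE ⊤ W.1 le_top c from
          congrArg (fun φ : Γ(Spec (CommRingCat.of k), ⊤) ⟶ Γ(X, W.1) => φ.hom c)
            (Iso.hom_inv_id_assoc (Scheme.ΓSpecIso (CommRingCat.of k)) (x.appLE ⊤ W.1 le_top))] at this
        exact this
    let L := inv T ≫ dd.desc
    refine ⟨L.hom.toAddMonoidHom, fun r m => L.hom.map_smul r m, fun s => ?_⟩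
    show (inv T ≫ dd.desc) (OmegaSh.dSect x W.1 s) = _
    rw [← OmAff.toSect_d x ⊤ W.1 le_top s, ← CategoryTheory.comp_apply, IsIso.hom_inv_id_assoc]
    exact dd.desc_d s
  choose l hsmul hl using key
  obtain ⟨φ, hφ⟩ := HilbObs3.exists_homSec (M := Omega.sheaf x) (N := M) (U := U) l hsmul
    (fun W hW W' hW' hle m => by
      refine DFunLike.congr_fun (Omega12.sect_ext x W.2 (isAffineOpen_top _) le_top
        (X.presheaf.map (homOfLE hle).op).hom
        ((M1.mres M hle).hom.comp (l W hW)) ((l W' hW').comp (M1.mres (Omega.sheaf x) hle).hom) ?_ ?_ ?_) m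
      · intro r m
        show M1.mres M hle (l W hW (r • m)) = _
        rw [hsmul, M1.mres_smul]
        rfl
      · intro r m
        show l W' hW' (M1.mres _ hle (r • m)) = _
        rw [M1.mres_smul, hsmul]
        rfl
      · intro b
        show M1.mres M hle (l W hW (OmegaSh.dSect x W.1 b)) = l W' hW' (M1.mres _ hle (OmegaSh.dSect x W.1 b))
        rw [hl, show M1.mres (Omega.sheaf x) hle (OmegaSh.dSect x W.1 b) =
          OmegaSh.dSect x W'.1 (X.presheaf.map (homOfLE hle).op b) from (OmegaSh.dSect_map x hle b).symm, hl]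
        exact hres W hW W' hW' hle b)
  exact ⟨φ, fun W hW b => (hφ W hW _).trans (hl W hW b)⟩

variable (x)

/-- The abelian sheaf of the tangent sheaf. -/
noncomputable abbrev FT : CohTop.Ab (CohFound.sp X) := (CohFound.abF X).obj (NT x)

/-- A section of the abelian sheaf as a section of the tangent sheaf. -/
noncomputable def asT (s : (FT x).obj.obj (op U)) : TSec x U := s

/-- A section of the tangent sheaf as a section of the abelian sheaf. -/
noncomputable def ofT (s : TSec x U) : (FT x).obj.obj (op U) := s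

variable {x}

theorem asT_ofT (s : TSec x U) : asT x (ofT x s) = s := rfl

theorem ofT_asT (s : (FT x).obj.obj (op U)) : ofT x (asT x s) = s := rfl

theorem asT_add (s t : (FT x).obj.obj (op U)) : asT x (s + t) = asT x s + asT x t := rfl

theorem asT_sub (s t : (FT x).obj.obj (op U)) : asT x (s - t) = asT x s - asT x t := rfl

theorem der_ab {V : X.Opens} (h : V ≤ U) (s : (FT x).obj.obj (op U)) (W : X.affineOpens) (hW : W.1 ≤ V)
    (b : Γ(X, W.1)) :
    der (asT x (CubeField.ab (FT x) h s)) W hW b = der (asT x s) W (hW.trans h) b := rfl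

theorem sec_ext {s t : (FT x).obj.obj (op U)}
    (h : ∀ (W : X.affineOpens) (hW : W.1 ≤ U) (b : Γ(X, W.1)), der (asT x s) W hW b = der (asT x t) W hW b) :
    s = t :=
  tsec_ext h

theorem der_smulAb [X.Over (Spec (CommRingCat.of k))] (hx : x = X ↘ Spec (CommRingCat.of k)) (c : k)
    (s : (FT x).obj.obj (op U)) (W : X.affineOpens) (hW : W.1 ≤ U) (b : Γ(X, W.1)) :
    der (asT x ((Coh.smulAb (NT x) (Coh.toGlobal (X ↘ Spec (CommRingCat.of k)) c)).hom.app (op U) s)) W hW b =
      ThickAff3.str x W.1 c * der (asT x s) W hW b := by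
  let r' : Coh.Γtop X := Coh.toGlobal (X ↘ Spec (CommRingCat.of k)) c
  show ((X.presheaf.map (homOfLE hW).op) (X.presheaf.map (homOfLE le_top).op r') : Γ(X, W.1)) •
    (asT x s).1 ⟨W.1, hW⟩ (OmegaSh.dSect x W.1 b) = _
  rw [← ConcreteCategory.comp_apply, ← X.presheaf.map_comp]
  refine congrArg (fun z : Γ(X, W.1) => z * der (asT x s) W hW b) ?_
  rw [show r' = Coh.toGlobal x c by rw [hx]]
  rw [HilbRS3.toGlobal_eq]
  exact ThickAff3.res_str x le_top c

end Groth.Agent.DefH13
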