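import Groth.Agent.Lib.DefH13.Coc
import Groth.Agent.Lib.HomTan3.Dd
import Groth.Agent.Lib.DefAff3.Scheme

/-!
# Twisted charts of the trivial first-order deformation
-/

set_option autoImplicit false
set_option linter.style.haveILetI false
set_option backward.isDefEq.respectTransparency.types false

universe u

open CategoryTheory CategoryTheory.Limits AlgebraicGeometry TopologicalSpace IsLocalRing Opposite

namespace Groth.Agent.DefH13

open ArtFun ArtFun.Art HilbRS3 HilbObs3 HomTan3

variable {k : Type u} [Field k] {X : Scheme.{u}} (x : X ⟶ Art.specPt k) [QuasiSeparated x]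

/-- The ring of a chart. -/
noncomputable abbrev BW (W : X.affineOpens) : CommRingCat.{u} := Γ(XA x (dual k k), (chart x (dual k k) W).1)

variable {x} {U : X.Opens} (t : TSec x U) {W : X.affineOpens}

omit [QuasiSeparated x] in
theorem σε_sq : cσ x (dual k k) W (HomTan3.eps k) * cσ x (dual k k) W (HomTan3.eps k) = 0 := by
  rw [← map_mul, HomTan3.eps_sq, map_zero]

omit [QuasiSeparated x] in
theorem σε_mul (w : BW x W) : cσ x (dual k k) W (HomTan3.eps k) * w =
    cσ x (dual k k) W (HomTan3.eps k) * cι x (dual k k) W (cι₀ x (dual k k) W w) := by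
  conv_lhs => rw [ddS_spec x W w]
  linear_combination (cι x (dual k k) W (ddS x W w)) * σε_sq (x := x) (W := W)

/-- The automorphism of a chart given by a derivation. -/
noncomputable def θ (hW : W.1 ≤ U) : BW x W →+* BW x W where
  toFun z := z + cσ x (dual k k) W (HomTan3.eps k) * cι x (dual k k) W (der t W hW (cι₀ x (dual k k) W z))
  map_one' := by
    have h : der t W hW 1 = 0 := by
      have := der_mul t W hW 1 1
      rw [one_mul, one_mul] at this
      simpa using this
    rw [map_one, h, map_zero, mul_zero, add_zero]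
  map_mul' z w := by
    have hz := σε_mul (x := x) (W := W) z
    have hw := σε_mul (x := x) (W := W) w
    have h0 := σε_sq (x := x) (W := W)
    rw [map_mul, der_mul, map_add, map_mul, map_mul]
    linear_combination (-(cι x (dual k k) W (der t W hW (cι₀ x (dual k k) W w)))) * hz +
      (-(cι x (dual k k) W (der t W hW (cι₀ x (dual k k) W z)))) * hw +
      (-(cι x (dual k k) W (der t W hW (cι₀ x (dual k k) W z)) * cι x (dual k k) W (der t W hW (cι₀ x (dual k k) W w)))) * h0
  map_zero' := by
    have h : der t W hW 0 = 0 := by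
      have := der_add_arg t W hW 0 0
      rw [add_zero] at this
      simpa using this
    rw [map_zero, h, map_zero, mul_zero, add_zero]
  map_add' z w := by
    rw [map_add, der_add_arg, map_add, mul_add]
    ring

theorem θ_apply (hW : W.1 ≤ U) (z : BW x W) : θ t hW z =
    z + cσ x (dual k k) W (HomTan3.eps k) * cι x (dual k k) W (der t W hW (cι₀ x (dual k k) W z)) := rfl

theorem cι₀_θ (hW : W.1 ≤ U) (z : BW x W) : cι₀ x (dual k k) W (θ t hW z) = cι₀ x (dual k k) W z := by
  rw [θ_apply, map_add, map_mul, cι₀_σε, zero_mul, add_zero]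

theorem θ_cσ (hW : W.1 ≤ U) (a : (dual k k : Art k k).carrier) :
    θ t hW (cσ x (dual k k) W a) = cσ x (dual k k) W a := by
  rw [θ_apply, cι₀_cσ, der_str, map_zero, mul_zero, add_zero]

theorem θ_cι (hW : W.1 ≤ U) (r : Γ(X, W.1)) : θ t hW (cι x (dual k k) W r) =
    cι x (dual k k) W r + cσ x (dual k k) W (HomTan3.eps k) * cι x (dual k k) W (der t W hW r) := by
  rw [θ_apply, cι₀_cι]

theorem θ_θ {U' U'' : X.Opens} (t' : TSec x U') (t'' : TSec x U'') (hW : W.1 ≤ U) (hW' : W.1 ≤ U') (hW'' : W.1 ≤ U'')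
    (h : ∀ r, der t'' W hW'' r = der t W hW r + der t' W hW' r) (z : BW x W) :
    θ t hW (θ t' hW' z) = θ t'' hW'' z := by
  rw [θ_apply t hW, cι₀_θ, θ_apply, θ_apply, h, map_add]
  ring

theorem θ_bijective (hW : W.1 ≤ U) : Function.Bijective (θ t hW) := by
  have h0 : ∀ z, θ (0 : TSec x U) hW z = z := fun z => by
    rw [θ_apply, show der (0 : TSec x U) W hW (cι₀ x (dual k k) W z) = 0 from rfl, map_zero, mul_zero, add_zero]
  have h1 : ∀ z, θ (-t) hW (θ t hW z) = z := fun z =>
    (θ_θ (-t) t (0 : TSec x U) hW hW hW (fun r => by rw [der_neg, neg_add_cancel]; rfl) z).trans (h0 z)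
  have h2 : ∀ z, θ t hW (θ (-t) hW z) = z := fun z =>
    (θ_θ t (-t) (0 : TSec x U) hW hW hW (fun r => by rw [der_neg, add_neg_cancel]; rfl) z).trans (h0 z)
  exact Function.bijective_iff_has_inverse.2 ⟨θ (-t) hW, h1, h2⟩

theorem cres_θ (hW : W.1 ≤ U) {W' : X.affineOpens} (hW' : W'.1 ≤ U) (h : W'.1 ≤ W.1) (z : BW x W) :
    cres x (dual k k) h (θ t hW z) = θ t hW' (cres x (dual k k) h z) := by
  rw [θ_apply, θ_apply, map_add, map_mul, cres_cσ, cres_cι', cι₀_cres, der_res t W hW W' hW' h]

omit [QuasiSeparated x] in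
theorem isOpenImmersion_cres {W' : X.affineOpens} (h : W'.1 ≤ W.1) :
    IsOpenImmersion (Spec.map (CommRingCat.ofHom (cres x (dual k k) h))) := by
  haveI : IsOpenImmersion (Spec.map (CommRingCat.ofHom (cres x (dual k k) h)) ≫ (chart x (dual k k) W).2.fromSpec) := by
    have e : Spec.map (CommRingCat.ofHom (cres x (dual k k) h)) ≫ (chart x (dual k k) W).2.fromSpec =
        (chart x (dual k k) W').2.fromSpec :=
      IsAffineOpen.map_fromSpec (chart x (dual k k) W).2 (chart x (dual k k) W').2
        (homOfLE (HilbObs3.chart_mono x (dual k k) h)).op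
    rw [e]; infer_instance
  exact IsOpenImmersion.of_comp _ (chart x (dual k k) W).2.fromSpec

/-- The closed fibre of a chart. -/
noncomputable def jW (x : X ⟶ Art.specPt k) (W : X.affineOpens) : W.1.toScheme ⟶ Spec (BW x W) :=
  W.2.isoSpec.hom ≫ Spec.map (CommRingCat.ofHom (cι₀ x (dual k k) W))

omit [QuasiSeparated x] in
theorem isPullback_jW (x : X ⟶ Art.specPt k) (W : X.affineOpens) :
    IsPullback (jW x W) (W.1.ι ≫ x) (Spec.map (CommRingCat.ofHom (cσ x (dual k k) W))) (Art.specRes (dual k k)) := by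
  have hw : CommRingCat.ofHom (cσ x (dual k k) W) ≫ CommRingCat.ofHom (cι₀ x (dual k k) W) =
      CommRingCat.ofHom (dual k k : Art k k).res.toRingHom ≫ CommRingCat.ofHom (ThickAff3.str x W.1) :=
    CommRingCat.hom_ext (RingHom.ext fun a => cι₀_cσ x (dual k k) W a)
  have hpo := DefAff3.isPushout_of_surjective _ _ _ _ hw (dual k k : Art k k).res_surjective
    (fun r => ⟨cι x (dual k k) W r, cι₀_cι x (dual k k) W r⟩) (by
      show RingHom.ker (cι₀ x (dual k k) W) ≤ _
      rw [ker_cι₀]
      refine Ideal.map_mono ?_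
      rw [show maximalIdeal (dual k k : Art k k).carrier = RingHom.ker (dual k k : Art k k).res.toRingHom from
        (DefGlue3.ker_res _).symm]
      exact le_rfl)
  have hsq := isPullback_SpecMap_of_isPushout _ _ _ _ hpo
  refine IsPullback.of_iso hsq W.2.isoSpec.symm (Iso.refl _) (Iso.refl _) (Iso.refl _) ?_ ?_ ?_ ?_
  · simp only [Iso.refl_hom, Category.comp_id, Iso.symm_hom, jW, Iso.inv_hom_id_assoc]
  · simp only [Iso.refl_hom, Category.comp_id, Iso.symm_hom, IsAffineOpen.isoSpec_inv_ι_assoc]
    show Spec.map ((Scheme.ΓSpecIso (CommRingCat.of k)).inv ≫ x.appLE ⊤ W.1 le_top) = _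
    rw [← IsAffineOpen.SpecMap_appLE_fromSpec x (isAffineOpen_top _) W.2 le_top, Spec.map_comp]
    refine congrArg (Spec.map (x.appLE ⊤ W.1 le_top) ≫ ·) ?_
    rw [IsAffineOpen.fromSpec_top]
    exact Scheme.isoSpec_Spec_inv (CommRingCat.of k) |>.symm
  · simp only [Iso.refl_hom, Category.comp_id, Category.id_comp]
  · simp only [Iso.refl_hom, Category.comp_id, Category.id_comp]

end Groth.Agent.DefH13
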