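import Groth.Agent.Lib.DefGlue3.Glue
import Groth.Agent.Lib.DefGlue3.Functor
import Groth.Agent.Lib.ThickAff3.BaseChange

/-!
# Sections of deformations over opens of the closed fibre
-/

set_option autoImplicit false
set_option linter.style.haveILetI false
set_option backward.isDefEq.respectTransparency.types false

universe u

open CategoryTheory CategoryTheory.Limits AlgebraicGeometry TopologicalSpace IsLocalRing

namespace Groth.Agent.DefH13

open ArtFun DefGlue3

variable {k : Type u} [Field k] {X : Scheme.{u}} {x : X ⟶ Spec (CommRingCat.of k)} {A B : Art k k}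

theorem i_homeo (ξ : DefSch X x A) : IsHomeomorph ξ.i :=
  isHomeomorph_iff_isEmbedding_surjective.2 ⟨ξ.i.isClosedEmbedding.isEmbedding, ξ.i.surjective⟩

/-- The open of the deformation over an open of the closed fibre. -/
noncomputable def up (ξ : DefSch X x A) (W : X.Opens) : ξ.total.Opens :=
  ⟨ξ.i '' (W : Set X), (i_homeo ξ).isOpenMap _ W.2⟩

theorem pre_up (ξ : DefSch X x A) (W : X.Opens) : ξ.i ⁻¹ᵁ up ξ W = W :=
  Opens.ext ((i_homeo ξ).injective.preimage_image _)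

theorem up_pre (ξ : DefSch X x A) (O : ξ.total.Opens) : up ξ (ξ.i ⁻¹ᵁ O) = O :=
  Opens.ext ((i_homeo ξ).surjective.image_preimage _)

theorem up_mono (ξ : DefSch X x A) {W W' : X.Opens} (h : W ≤ W') : up ξ W ≤ up ξ W' := Set.image_mono h

theorem up_inf (ξ : DefSch X x A) (W W' : X.Opens) : up ξ W ⊓ up ξ W' = up ξ (W ⊓ W') :=
  Opens.ext (Set.image_inter (i_homeo ξ).injective).symm

theorem isAffineOpen_up (ξ : DefSch X x A) {W : X.Opens} (hW : IsAffineOpen W) : IsAffineOpen (up ξ W) := by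
  have h : IsPullback (ξ.i ∣_ up ξ W) ((ξ.i ⁻¹ᵁ up ξ W).ι ≫ x) ((up ξ W).ι ≫ ξ.f) (Art.specRes A) :=
    ((isPullback_morphismRestrict ξ.i (up ξ W)).paste_vert ξ.isPullback)
  haveI : IsAffine (ξ.i ⁻¹ᵁ up ξ W).toScheme := by rw [pre_up]; exact hW
  exact ThickAff3.isAffine_of_isPullback A.res.toRingHom A.res_surjective h

/-- The affine open over an affine open. -/
noncomputable def upA (ξ : DefSch X x A) (W : X.affineOpens) : ξ.total.affineOpens :=
  ⟨up ξ W.1, isAffineOpen_up ξ W.2⟩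

/-- Restriction to the closed fibre. -/
noncomputable def iW (ξ : DefSch X x A) (W : X.Opens) : Γ(ξ.total, up ξ W) →+* Γ(X, W) :=
  (ξ.i.appLE (up ξ W) W (pre_up ξ W).ge).hom

theorem iW_res (ξ : DefSch X x A) {W W' : X.Opens} (h : W' ≤ W) (z : Γ(ξ.total, up ξ W)) :
    iW ξ W' (ξ.total.presheaf.map (homOfLE (up_mono ξ h)).op z) = X.presheaf.map (homOfLE h).op (iW ξ W z) := by
  have e : ξ.total.presheaf.map (homOfLE (up_mono ξ h)).op ≫ ξ.i.appLE (up ξ W') W' (pre_up ξ W').ge =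
      ξ.i.appLE (up ξ W) W (pre_up ξ W).ge ≫ X.presheaf.map (homOfLE h).op := by
    rw [Scheme.Hom.map_appLE, Scheme.Hom.appLE_map]
  exact congrArg (fun φ : Γ(ξ.total, up ξ W) ⟶ Γ(X, W') => φ.hom z) e

theorem iW_str (ξ : DefSch X x A) (W : X.Opens) (a : A) :
    iW ξ W (ThickAff3.str ξ.f (up ξ W) a) = ThickAff3.str x W (A.res a) :=
  appLE_str ξ.f x A.res.toRingHom ξ.i ξ.isPullback.w _ W _ a

theorem iW_eq (ξ : DefSch X x A) (W : X.Opens) (z : Γ(ξ.total, up ξ W)) :
    iW ξ W z = X.presheaf.map (homOfLE (pre_up ξ W).ge).op (ξ.i.app (up ξ W) z) := rfl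

theorem res_res_self {Z : Scheme.{u}} {U V : Z.Opens} (h : U ≤ V) (h' : V ≤ U) (s : Γ(Z, U)) :
    Z.presheaf.map (homOfLE h).op (Z.presheaf.map (homOfLE h').op s) = s := by
  obtain rfl : U = V := le_antisymm h h'
  simp

theorem ker_iW (ξ : DefSch X x A) (W : X.affineOpens) :
    RingHom.ker (iW ξ W.1) = (maximalIdeal A).map (ThickAff3.str ξ.f (up ξ W.1)) := by
  rw [← ker_i ξ (isAffineOpen_up ξ W.2)]
  ext z
  rw [RingHom.mem_ker, RingHom.mem_ker, iW_eq]
  refine ⟨fun h => ?_, fun h => ?_⟩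
  · have h' := congrArg (X.presheaf.map (homOfLE (pre_up ξ W.1).le).op) h
    rw [map_zero, res_res_self] at h'
    exact h'
  · exact (congrArg _ h).trans (map_zero _)

theorem iW_surjective (ξ : DefSch X x A) (W : X.affineOpens) : Function.Surjective (iW ξ W.1) := fun r => by
  obtain ⟨z, hz⟩ := ξ.i.app_surjective (up ξ W.1) (isAffineOpen_up ξ W.2)
    (X.presheaf.map (homOfLE (pre_up ξ W.1).le).op r)
  refine ⟨z, ?_⟩
  rw [iW_eq, hz, res_res_self]

theorem str_mul_eq_zero_iff (ξ : DefSch X x A) (W : X.affineOpens) {c : A} (hc : ∀ r, c * r = 0 ↔ r ∈ maximalIdeal A)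
    (z : Γ(ξ.total, up ξ W.1)) : ThickAff3.str ξ.f (up ξ W.1) c * z = 0 ↔ iW ξ W.1 z = 0 := by
  rw [← RingHom.mem_ker (f := iW ξ W.1), ker_iW]
  refine ⟨fun h => ThickAff3.mem_map_of_str_mul_mem ξ.f (isAffineOpen_up ξ W.2) ⊥ _ c
    (fun r hr => (hc r).1 ((Submodule.mem_bot A).1 hr)) (by simp [h]), fun h => ?_⟩
  induction h using Submodule.span_induction with
  | mem t ht =>
    obtain ⟨a, ha, rfl⟩ := ht
    rw [← map_mul, (hc a).2 ha, map_zero]
  | zero => rw [mul_zero]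
  | add s t _ _ hs ht => rw [mul_add, hs, ht, add_zero]
  | smul r t _ ht => rw [smul_eq_mul, mul_left_comm, ht, mul_zero]

variable {φ : A ⟶ B} {ξ : DefSch X x A} {η : DefSch X x B} {g : η.total ⟶ ξ.total}

theorem up_le (h : Over' φ ξ η g) (W : X.Opens) : up η W ≤ g ⁻¹ᵁ up ξ W := by
  rintro _ ⟨q, hq, rfl⟩
  exact ⟨q, hq, (congrArg (fun m : X ⟶ ξ.total => m q) h.hi).symm⟩

/-- The map on sections of a morphism of deformations. -/
noncomputable def gU (h : Over' φ ξ η g) (W : X.Opens) : Γ(ξ.total, up ξ W) →+* Γ(η.total, up η W) :=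
  (g.appLE (up ξ W) (up η W) (up_le h W)).hom

theorem iW_gU (h : Over' φ ξ η g) (W : X.Opens) (z : Γ(ξ.total, up ξ W)) : iW η W (gU h W z) = iW ξ W z := by
  show (g.appLE _ _ (up_le h W) ≫ η.i.appLE (up η W) W (pre_up η W).ge).hom z = _
  rw [Scheme.Hom.appLE_comp_appLE]
  simp only [h.hi]
  rfl

theorem gU_str (h : Over' φ ξ η g) (W : X.Opens) (a : A) :
    gU h W (ThickAff3.str ξ.f (up ξ W) a) = ThickAff3.str η.f (up η W) (φ a) :=
  appLE_str ξ.f η.f φ.toAlgHom.toRingHom g h.w _ _ _ a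

theorem gU_res (h : Over' φ ξ η g) {W W' : X.Opens} (hle : W' ≤ W) (z : Γ(ξ.total, up ξ W)) :
    η.total.presheaf.map (homOfLE (up_mono η hle)).op (gU h W z) =
      gU h W' (ξ.total.presheaf.map (homOfLE (up_mono ξ hle)).op z) := by
  have e : g.appLE (up ξ W) (up η W) (up_le h W) ≫ η.total.presheaf.map (homOfLE (up_mono η hle)).op =
      ξ.total.presheaf.map (homOfLE (up_mono ξ hle)).op ≫ g.appLE (up ξ W') (up η W') (up_le h W') := by
    rw [Scheme.Hom.map_appLE, Scheme.Hom.appLE_map]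
  exact congrArg (fun φ : Γ(ξ.total, up ξ W) ⟶ Γ(η.total, up η W') => φ.hom z) e

end Groth.Agent.DefH13
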